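import Mathlib

/-!
# Ring identities for operators of order three
-/

set_option autoImplicit false
set_option linter.style.haveILetI false

namespace Cfsg.Agent.Lib.S3Fpf

variable {A : Type*} [Ring A]

/-- If `a, b` are roots of `x² + x + 1`, then `b a² + a b²` commutes with `a`. -/
theorem alg_comm {a b : A} (ha : a * a + a + 1 = 0) (hb : b * b + b + 1 = 0) :
    a * (b * (a * a) + a * (b * b)) = (b * (a * a) + a * (b * b)) * a := by
  have ha2 : a * a = -a - 1 := by
    rw [eq_sub_iff_add_eq, eq_neg_iff_add_eq_zero] 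
    rw [add_assoc, add_comm 1 a, ← add_assoc] 
    exact ha
  have hb2 : b * b = -b - 1 := by
    rw [eq_sub_iff_add_eq, eq_neg_iff_add_eq_zero]
    rw [add_assoc, add_comm 1 b, ← add_assoc]
    exact hb
  have h1 : b * (a * a) + a * (b * b) = -(b * a) - b - a * b - a := by
    rw [ha2, hb2]; noncomm_ring
  rw [h1]
  have h2 : a * (-(b * a) - b - a * b - a) = -(a * b * a) - a * b - (a * a) * b - a * a := by
    noncomm_ring
  have h3 : (-(b * a) - b - a * b - a) * a = -(b * (a * a)) - b * a - a * b * a - a * a := by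
    noncomm_ring
  rw [h2, h3, ha2]
  noncomm_ring

/-- The commutator identity. -/
theorem alg_comm2 {U Ui U' Ui' T Ti : A} (hU : U * Ui = 1) (hU2 : Ui * U = 1) (hV : U' * Ui' = 1)
    (hV2 : Ui' * U' = 1) (hT : T * Ti = 1) (hT2 : Ti * T = 1) (hc : U * U' = T * U' * U)
    (hTU : T * U = U * T) (hTV : T * U' = U' * T) (hs : U + Ui = U' + Ui') :
    (T - 1) * (T - 1) * (T + 1) = 0 := by
  have hTUi : T * Ui = Ui * T := by
    calc T * Ui = (Ui * U) * T * Ui := by rw [hU2, one_mul]
      _ = Ui * (U * T) * Ui := by simp only [mul_assoc]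
      _ = Ui * (T * U) * Ui := by rw [hTU]
      _ = Ui * T * (U * Ui) := by simp only [mul_assoc]
      _ = Ui * T := by rw [hU, mul_one]
  have hTVi : T * Ui' = Ui' * T := by
    calc T * Ui' = (Ui' * U') * T * Ui' := by rw [hV2, one_mul]
      _ = Ui' * (U' * T) * Ui' := by simp only [mul_assoc]
      _ = Ui' * (T * U') * Ui' := by rw [hTV]
      _ = Ui' * T * (U' * Ui') := by simp only [mul_assoc]
      _ = Ui' * T := by rw [hV, mul_one]
  have hTiU : Ti * U = U * Ti := by
    calc Ti * U = Ti * U * (T * Ti) := by rw [hT, mul_one]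
      _ = Ti * (U * T) * Ti := by simp only [mul_assoc]
      _ = Ti * (T * U) * Ti := by rw [hTU]
      _ = (Ti * T) * U * Ti := by simp only [mul_assoc]
      _ = U * Ti := by rw [hT2, one_mul]
  set P := T - 1 with hP
  have hPU : P * U = U * P := by rw [hP, sub_mul, mul_sub, hTU, one_mul, mul_one]
  have hPV : P * U' = U' * P := by rw [hP, sub_mul, mul_sub, hTV, one_mul, mul_one]
  have hPT : P * T = T * P := by rw [hP, sub_mul, mul_sub, one_mul, mul_one]
  -- commutation with the common value
  have e0 : U' * Ui = T * Ui * U' := by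
    calc U' * Ui = Ui * (U * U') * Ui := by
          rw [← mul_assoc Ui U U', hU2, one_mul]
      _ = Ui * (T * U' * U) * Ui := by rw [hc]
      _ = Ui * T * U' * (U * Ui) := by simp only [mul_assoc]
      _ = Ui * T * U' := by rw [hU, mul_one]
      _ = T * Ui * U' := by rw [hTUi]
  have e1 : (U + Ui) * U' = U' * (U + Ui) := by
    rw [hs, add_mul, mul_add, hV, hV2]
  have e2 : P * (U' * U) = P * (Ui * U') := by
    have h1 : T * (U' * U) + Ui * U' = U' * U + T * (Ui * U') := by
      have h2 := e1
      rw [add_mul, mul_add, hc, e0] at h2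
      simpa only [mul_assoc] using h2
    rw [hP, sub_mul, sub_mul, one_mul, one_mul, sub_eq_sub_iff_add_eq_add, h1, add_comm]
  have e3 : U' * U = Ti * (U * U') := by
    rw [hc, mul_assoc T, ← mul_assoc Ti, hT2, one_mul]
  have e4 : P * Ti * U = P * Ui := by
    have h1 : P * (Ti * (U * U')) = P * (Ui * U') := by rw [← e3, e2]
    calc P * Ti * U = P * (Ti * (U * U')) * Ui' := by
          simp only [mul_assoc]; rw [hV, mul_one]
      _ = P * (Ui * U') * Ui' := by rw [h1]
      _ = P * Ui := by simp only [mul_assoc]; rw [hV, mul_one]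
  have e5 : P * Ti * (U * U) = P := by
    calc P * Ti * (U * U) = (P * Ti * U) * U := by simp only [mul_assoc]
      _ = P * Ui * U := by rw [e4]
      _ = P := by rw [mul_assoc, hU2, mul_one]
  have eA : P * (U * U) = P * T := by
    calc P * (U * U) = (P * T) * Ti * (U * U) := by
          rw [mul_assoc P T Ti, hT, mul_one]
      _ = T * (P * Ti * (U * U)) := by
          rw [hPT]; simp only [mul_assoc]
      _ = T * P := by rw [e5]
      _ = P * T := hPT.symm
  -- conjugating by `U'`
  have e6 : U' * (U * U) * Ui' = Ti * Ti * (U * U) := by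
    have h1 : U' * U * Ui' = Ti * U := by
      rw [e3]; simp only [mul_assoc]; rw [hV, mul_one]
    calc U' * (U * U) * Ui' = (U' * U * Ui') * (U' * U * Ui') := by
          have h2 : Ui' * (U' * (U * Ui')) = U * Ui' := by rw [← mul_assoc, hV2, one_mul]
          simp only [mul_assoc]; rw [h2]
      _ = Ti * U * (Ti * U) := by rw [h1]
      _ = Ti * (U * Ti) * U := by simp only [mul_assoc]
      _ = Ti * (Ti * U) * U := by rw [hTiU]
      _ = Ti * Ti * (U * U) := by simp only [mul_assoc]
  have e7 : P * (Ti * Ti * (U * U)) = P * T := by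
    calc P * (Ti * Ti * (U * U)) = P * (U' * (U * U) * Ui') := by rw [e6]
      _ = U' * (P * (U * U)) * Ui' := by
          rw [← mul_assoc P, ← mul_assoc P, hPV]; simp only [mul_assoc]
      _ = U' * (P * T) * Ui' := by rw [eA]
      _ = P * T * (U' * Ui') := by
          rw [← mul_assoc U', ← hPV, mul_assoc P, mul_assoc P, mul_assoc P, ← hTV]
          simp only [mul_assoc]
      _ = P * T := by rw [hV, mul_one]
  have hTiP : Ti * P = P * Ti := by
    rw [hP, sub_mul, mul_sub, hT2, hT, one_mul, mul_one]
  have e8 : P * Ti = P * T := by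
    have h1 : Ti * Ti * (P * T) = P * T := by
      calc Ti * Ti * (P * T) = Ti * Ti * (P * (U * U)) := by rw [eA]
        _ = P * (Ti * Ti * (U * U)) := by
            rw [← mul_assoc (Ti * Ti), mul_assoc Ti Ti P, hTiP, ← mul_assoc Ti P, hTiP]
            simp only [mul_assoc]
        _ = P * T := e7
    calc P * Ti = Ti * P := hTiP.symm
      _ = Ti * (T * (Ti * P)) := by
          rw [← mul_assoc T, hT, one_mul]
      _ = Ti * Ti * (P * T) := by
          rw [hPT]
          have : T * (Ti * P) = P := by rw [← mul_assoc, hT, one_mul]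
          rw [this]
          have h2 : P = T * Ti * P := by rw [hT, one_mul]
          rw [mul_assoc Ti Ti, ← mul_assoc Ti T P, hT2, one_mul]
      _ = P * T := h1
  have e9 : P * (T * T - 1) = 0 := by
    have h1 : P * T * T = P := by
      rw [← e8, mul_assoc, hT2, mul_one]
    rw [mul_sub, mul_one, ← mul_assoc, h1, sub_self]
  have e10 : T * T - 1 = P * (T + 1) := by
    rw [hP]; noncomm_ring
  rw [mul_assoc, ← e10, e9]

/-- From `(T-1)²(T+1) = 0` and `T` of odd order (invertible in the ring) conclude `T = 1`. -/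
theorem alg_odd {T : A} (h : (T - 1) * (T - 1) * (T + 1) = 0) (k : ℕ) (hk : T ^ (2 * k + 1) = 1)
    (hn : ∀ x : A, (2 * k + 1) • x = 0 → x = 0) : T = 1 := by
  set W := T - 1 with hW
  have hT : T = W + 1 := by rw [hW]; abel
  have hTc : (T - 1) * (T * T - 1) = 0 := by
    have : T * T - 1 = (T - 1) * (T + 1) := by noncomm_ring
    rw [this, ← mul_assoc]; exact h
  have h1 : T * (T * T - 1) = T * T - 1 := by
    have : T * (T * T - 1) - (T * T - 1) = 0 := by
      rw [← hTc]; noncomm_ring
    exact sub_eq_zero.mp this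
  have h2 : ∀ m : ℕ, T ^ (2 * m + 1) = T + m • (T * T - 1) := by
    intro m
    induction m with
    | zero => simp
    | succ m ih =>
      have h3 : T ^ (2 * (m + 1) + 1) = T * (T * T ^ (2 * m + 1)) := by
        rw [← mul_assoc, ← pow_two, ← pow_add]
        congr 1
        ring
      rw [h3, ih]
      have h4 : T * (T * m • (T * T - 1)) = m • (T * T - 1) := by
        rw [mul_smul_comm, mul_smul_comm, h1, h1]
      rw [mul_add, mul_add, h4]
      have h5 : T * (T * T) = T + (T * T - 1) := by
        have := h1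
        rw [mul_sub, mul_one] at this
        rw [← this]; abel
      rw [h5, add_smul, one_smul]
      abel
  have h3 := h2 k
  rw [hk] at h3
  have h4 : W + k • (W * (T + 1)) = 0 := by
    have e : T * T - 1 = W * (T + 1) := by rw [hW]; noncomm_ring
    rw [← e]
    rw [hW]
    have := h3
    calc T - 1 + k • (T * T - 1) = (T + k • (T * T - 1)) - 1 := by abel
      _ = 0 := by rw [← this, sub_self]
  have h5 : W * W = 0 := by
    have h6 : W * (W + k • (W * (T + 1))) = 0 := by rw [h4, mul_zero]
    rw [mul_add, mul_smul_comm, ← mul_assoc, h, smul_zero, add_zero] at h6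
    exact h6
  have h6 : W * (T + 1) = 2 • W := by
    rw [hT]
    have : W * (W + 1 + 1) = W * W + 2 • W := by noncomm_ring
    rw [this, h5, zero_add]
  rw [h6] at h4
  have h7 : (2 * k + 1) • W = 0 := by
    rw [add_smul, one_smul, mul_comm, mul_smul, add_comm]
    exact h4
  have h8 := hn W h7
  rw [hT, h8, zero_add]

end Cfsg.Agent.Lib.S3Fpf
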