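import Mathlib
import Cfsg.Agent.Lib.S3Fpf.Alg

/-!
# An element of order three without fixed points on a module centralizes solvable `p'`-subgroups
-/

set_option autoImplicit false
set_option linter.style.haveILetI false

namespace Cfsg.Agent.Lib.S3Fpf

variable {K V Γ : Type*} [Field K] [AddCommGroup V] [Module K V] [Group Γ]
  (ρ : Γ →* Module.End K V) {s : Γ}

/-- Every conjugate of a fixed-point-free element of order three is a root of `x² + x + 1`. -/
theorem conj_root (hs3 : s ^ 3 = 1) (hfix : ∀ v, ρ s v = v → v = 0) (x : Γ) :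
    ρ (x * s * x⁻¹) * ρ (x * s * x⁻¹) + ρ (x * s * x⁻¹) + 1 = 0 := by
  set g := x * s * x⁻¹ with hg
  have hg3 : g * g * g = 1 := by
    have : g * g * g = x * s ^ 3 * x⁻¹ := by
      rw [hg, pow_three']; group
    rw [this, hs3]; group
  refine LinearMap.ext fun v => ?_
  simp only [LinearMap.add_apply, Module.End.mul_apply, Module.End.one_apply,
    LinearMap.zero_apply]
  set w := ρ g (ρ g v) + ρ g v + v with hw
  have h1 : ρ g w = w := by
    have h2 : ρ g (ρ g (ρ g v)) = v := by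
      have : ρ (g * g * g) v = v := by rw [hg3, map_one]; rfl
      simpa [map_mul, Module.End.mul_apply] using this
    rw [hw, map_add, map_add, h2]
    abel
  have h3 : ρ s (ρ x⁻¹ w) = ρ x⁻¹ w := by
    have h4 : s * x⁻¹ = x⁻¹ * g := by rw [hg]; group
    have h5 : ρ s (ρ x⁻¹ w) = ρ (s * x⁻¹) w := by rw [map_mul]; rfl
    rw [h5, h4, map_mul, Module.End.mul_apply, h1]
  have h6 := hfix _ h3
  have h7 : ρ x (ρ x⁻¹ w) = w := by
    have : ρ (x * x⁻¹) w = w := by rw [mul_inv_cancel, map_one]; rfl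
    simpa [map_mul, Module.End.mul_apply] using this
  rw [← h7, h6, map_zero]

/-- Averaging: a fixed-point-free element of order three centralizes abelian invariant
subgroups of order invertible in `K`. -/
theorem centralize_abelian (hinj : Function.Injective ρ) (hs3 : s ^ 3 = 1)
    (hfix : ∀ v, ρ s v = v → v = 0) {R : Subgroup Γ} [Finite R]
    (hc : ∀ a ∈ R, ∀ b ∈ R, a * b = b * a) (hRs : ∀ x ∈ R, s * x * s⁻¹ ∈ R)
    (hK : (Nat.card R : K) ≠ 0) : ∀ y ∈ R, s * y * s⁻¹ = y := by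
  classical
  haveI : Fintype R := Fintype.ofFinite R
  have hss : s * s = s⁻¹ := by
    rw [eq_inv_iff_mul_eq_one, ← pow_three', hs3]
  have hs4 : s * s * s * s = s := by
    rw [← pow_three', hs3, one_mul]
  have hR2 : ∀ x ∈ R, (s * s) * x * (s * s)⁻¹ ∈ R := by
    intro x hx
    have : (s * s) * x * (s * s)⁻¹ = s * (s * x * s⁻¹) * s⁻¹ := by group
    rw [this]
    exact hRs _ (hRs _ hx)
  let f : Γ → Γ → Γ := fun c x => x * (c * x⁻¹ * c⁻¹)
  let E : Γ → Module.End K V := fun c => ∑ x : R, ρ (f c x.1)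
  -- invariance of the sum
  have hinv : ∀ c : Γ, (∀ x ∈ R, c * x * c⁻¹ ∈ R) → ∀ y ∈ R, ρ (f c y) * E c = E c := by
    intro c hcR y hy
    show ρ (f c y) * (∑ x : R, ρ (f c x.1)) = ∑ x : R, ρ (f c x.1)
    rw [Finset.mul_sum]
    have h1 : ∀ x : R, ρ (f c y) * ρ (f c x.1) = ρ (f c ((⟨y, hy⟩ * x : R) : Γ)) := by
      intro x
      rw [← map_mul]
      congr 1
      show y * (c * y⁻¹ * c⁻¹) * (x.1 * (c * x.1⁻¹ * c⁻¹)) =
        (y * x.1) * (c * (y * x.1)⁻¹ * c⁻¹)
      have hA : c * y⁻¹ * c⁻¹ ∈ R := hcR _ (R.inv_mem hy)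
      have hC : c * x.1⁻¹ * c⁻¹ ∈ R := hcR _ (R.inv_mem x.2)
      have h2 := hc _ hA _ (R.mul_mem x.2 hC)
      calc y * (c * y⁻¹ * c⁻¹) * (x.1 * (c * x.1⁻¹ * c⁻¹))
          = y * ((c * y⁻¹ * c⁻¹) * (x.1 * (c * x.1⁻¹ * c⁻¹))) := by group
        _ = y * ((x.1 * (c * x.1⁻¹ * c⁻¹)) * (c * y⁻¹ * c⁻¹)) := by rw [h2]
        _ = (y * x.1) * (c * (y * x.1)⁻¹ * c⁻¹) := by group
    simp_rw [h1]
    exact Equiv.sum_comp (Equiv.mulLeft (⟨y, hy⟩ : R)) (fun x : R => ρ (f c x.1))
  set a := ρ s with ha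
  -- the basic relation
  have hrel : ∀ x : Γ, 1 + ρ (f s x) * a + ρ (f (s * s) x) * (a * a) = 0 := by
    intro x
    have h1 := conj_root ρ hs3 hfix x
    have h2 : ρ (x * s * x⁻¹) = ρ (f s x) * a := by
      rw [ha, ← map_mul]
      congr 1
      show x * s * x⁻¹ = x * (s * x⁻¹ * s⁻¹) * s
      group
    have h3 : ρ (x * s * x⁻¹) * ρ (x * s * x⁻¹) = ρ (f (s * s) x) * (a * a) := by
      rw [ha, ← map_mul, ← map_mul, ← map_mul]
      congr 1
      show x * s * x⁻¹ * (x * s * x⁻¹) = x * ((s * s) * x⁻¹ * (s * s)⁻¹) * (s * s)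
      group
    rw [h3, h2] at h1
    rw [← h1]
    abel
  have hsum : (Fintype.card R) • (1 : Module.End K V) + E s * a + E (s * s) * (a * a) = 0 := by
    have h1 : ∑ x : R, (1 + ρ (f s x.1) * a + ρ (f (s * s) x.1) * (a * a)) = 0 :=
      Finset.sum_eq_zero (fun x _ => hrel x.1)
    rw [Finset.sum_add_distrib, Finset.sum_add_distrib, ← Finset.sum_mul, ← Finset.sum_mul] at h1
    simpa using h1
  intro y hy
  set u := f s y with hu
  have h1 : ρ u * E s = E s := hinv s hRs y hy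
  have h2 : ρ u * E (s * s) = E (s * s) := by
    set y2 := (s * s) * y * (s * s)⁻¹ with hy2
    have hy2R : y2 ∈ R := hR2 y hy
    have h3 : u = f (s * s) y * f (s * s) y2 := by
      show y * (s * y⁻¹ * s⁻¹) = y * ((s * s) * y⁻¹ * (s * s)⁻¹) *
        (y2 * ((s * s) * y2⁻¹ * (s * s)⁻¹))
      have h4 : (s * s) * y2⁻¹ * (s * s)⁻¹ = s * y⁻¹ * s⁻¹ := by
        have h5 : (s * s) * y2⁻¹ * (s * s)⁻¹ = (s * s * s * s) * y⁻¹ * (s * s * s * s)⁻¹ := by
          rw [hy2]; simp only [mul_inv_rev, inv_inv, mul_assoc]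
        rw [h5, hs4]
      rw [h4, hy2]
      group
    rw [h3, map_mul, mul_assoc, hinv _ hR2 y2 hy2R, hinv _ hR2 y hy]
  have h3 : (Fintype.card R) • (ρ u - 1) = 0 := by
    have h4 : ρ u * ((Fintype.card R) • (1 : Module.End K V) + E s * a + E (s * s) * (a * a)) = 0 := by
      rw [hsum, mul_zero]
    rw [mul_add, mul_add, ← mul_assoc, ← mul_assoc, h1, h2, mul_smul_comm, mul_one] at h4
    have h5 : (Fintype.card R) • (ρ u - 1) =
        ((Fintype.card R) • ρ u + E s * a + E (s * s) * (a * a)) -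
          ((Fintype.card R) • (1 : Module.End K V) + E s * a + E (s * s) * (a * a)) := by
      rw [smul_sub]; abel
    rw [h5, h4, hsum, sub_zero]
  have h4 : ρ u = 1 := by
    refine LinearMap.ext fun v => ?_
    have h5 := congrArg (fun F : Module.End K V => F v) h3
    simp only [LinearMap.smul_apply, LinearMap.sub_apply, Module.End.one_apply,
      LinearMap.zero_apply] at h5
    rw [← Nat.cast_smul_eq_nsmul K] at h5
    have hK' : ((Fintype.card R : ℕ) : K) ≠ 0 := by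
      rwa [← Nat.card_eq_fintype_card]
    have h6 := (smul_eq_zero.mp h5).resolve_left hK'
    simpa [sub_eq_zero] using h6
  have h5 : u = 1 := hinj (by rw [h4, map_one])
  have h6 : y * (s * y⁻¹ * s⁻¹) = 1 := h5
  have h7 : s * y⁻¹ * s⁻¹ = y⁻¹ := eq_inv_of_mul_eq_one_right h6
  have h8 : (s * y⁻¹ * s⁻¹)⁻¹ = s * y * s⁻¹ := by group
  rw [← h8, h7, inv_inv]

/-- Commutator notation local to this file. -/
def cm {G : Type*} [Group G] (a b : G) : G := a * b * a⁻¹ * b⁻¹

section ClassTwo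

variable {G : Type*} [Group G] {R : Subgroup G}

theorem cm_mul_left (hz : ∀ g ∈ R, ∀ h ∈ R, ∀ r ∈ R, r * cm g h = cm g h * r) {a b c : G}
    (ha : a ∈ R) (hb : b ∈ R) (hc : c ∈ R) : cm (a * b) c = cm a c * cm b c := by
  have h1 := hz b hb c hc a ha
  have h2 := hz b hb c hc (cm a c) (R.mul_mem (R.mul_mem (R.mul_mem ha hc) (R.inv_mem ha))
    (R.inv_mem hc))
  calc cm (a * b) c = a * cm b c * c * a⁻¹ * c⁻¹ := by simp only [cm]; group
    _ = cm b c * a * c * a⁻¹ * c⁻¹ := by rw [h1]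
    _ = cm b c * cm a c := by simp only [cm]; group
    _ = cm a c * cm b c := h2.symm

theorem cm_mul_right (hz : ∀ g ∈ R, ∀ h ∈ R, ∀ r ∈ R, r * cm g h = cm g h * r) {a b c : G}
    (ha : a ∈ R) (hb : b ∈ R) (hc : c ∈ R) : cm a (b * c) = cm a b * cm a c := by
  have h1 := hz a ha c hc b hb
  calc cm a (b * c) = cm a b * (b * cm a c * b⁻¹) := by simp only [cm]; group
    _ = cm a b * (cm a c * b * b⁻¹) := by rw [h1]
    _ = cm a b * cm a c := by group

theorem cm_inv_right (hz : ∀ g ∈ R, ∀ h ∈ R, ∀ r ∈ R, r * cm g h = cm g h * r) {a b : G}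
    (ha : a ∈ R) (hb : b ∈ R) : cm a b⁻¹ = (cm a b)⁻¹ := by
  have h1 := cm_mul_right hz ha hb (R.inv_mem hb)
  have h2 : cm a (b * b⁻¹) = 1 := by simp [cm]
  rw [h2] at h1
  exact eq_inv_of_mul_eq_one_right h1.symm

theorem cm_inv_left (hz : ∀ g ∈ R, ∀ h ∈ R, ∀ r ∈ R, r * cm g h = cm g h * r) {a b : G}
    (ha : a ∈ R) (hb : b ∈ R) : cm a⁻¹ b = (cm a b)⁻¹ := by
  have h1 := cm_mul_left hz ha (R.inv_mem ha) hb
  have h2 : cm (a * a⁻¹) b = 1 := by simp [cm]
  rw [h2] at h1
  exact eq_inv_of_mul_eq_one_right h1.symm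

theorem cm_swap (a b : G) : cm b a = (cm a b)⁻¹ := by
  simp only [cm]; group

theorem cm_map {H : Type*} [Group H] (f : G →* H) (a b : G) : f (cm a b) = cm (f a) (f b) := by
  simp [cm]

end ClassTwo

/-- A fixed-point-free element of order three centralizes every solvable invariant subgroup
of order prime to `6` and invertible in `K`. -/
theorem centralize_solvable (hinj : Function.Injective ρ) (hs3 : s ^ 3 = 1)
    (hfix : ∀ v, ρ s v = v → v = 0) (n : ℕ) :
    ∀ (R : Subgroup Γ), Nat.card R = n → Finite R → Group.IsSolvable R →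
      (∀ x ∈ R, s * x * s⁻¹ ∈ R) → (Nat.card R).Coprime 6 → (Nat.card R : K) ≠ 0 →
      ∀ x ∈ R, s * x * s⁻¹ = x := by
  classical
  induction n using Nat.strong_induction_on with
  | _ n ih =>
  intro R hn hfin hsol hRs hcop hK
  by_contra hne
  push Not at hne
  obtain ⟨x0, hx0, hx0ne⟩ := hne
  set σ : MulAut Γ := MulAut.conj s with hσ
  have hσa : ∀ x, σ x = s * x * s⁻¹ := fun x => rfl
  have hσ3 : ∀ x, σ (σ (σ x)) = x := by
    intro x
    simp only [hσa]
    have : s * (s * (s * x * s⁻¹) * s⁻¹) * s⁻¹ = s ^ 3 * x * (s ^ 3)⁻¹ := by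
      rw [pow_three']; group
    rw [this, hs3]; group
  have hRσ : ∀ x ∈ R, σ x ∈ R := hRs
  -- inherited conditions
  have hsub : ∀ {T : Subgroup Γ}, T ≤ R → T ≠ R → Nat.card T < n := by
    intro T hT hTne
    rw [← hn]
    have h1 : Nat.card T ≤ Nat.card R := Nat.le_of_dvd Nat.card_pos (Subgroup.card_dvd_of_le hT)
    refine lt_of_le_of_ne h1 fun h2 => hTne ?_
    exact Subgroup.eq_of_le_of_card_ge hT h2.ge
  have hinh : ∀ {T : Subgroup Γ}, T ≤ R → T ≠ R → (∀ x ∈ T, s * x * s⁻¹ ∈ T) →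
      ∀ x ∈ T, s * x * s⁻¹ = x := by
    intro T hT hTne hTs
    haveI : Finite T := Finite.of_injective _ (Subgroup.inclusion_injective hT)
    have hdvd : Nat.card T ∣ Nat.card R := Subgroup.card_dvd_of_le hT
    refine ih _ (hsub hT hTne) T rfl inferInstance ?_ hTs (Nat.Coprime.coprime_dvd_left hdvd hcop) ?_
    · exact Group.isSolvable_of_isSolvable_injective (Subgroup.inclusion_injective hT)
    · obtain ⟨m, hm⟩ := hdvd
      intro h0
      apply hK
      rw [hm, Nat.cast_mul, h0, zero_mul]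
  have hcube : ∀ {y : Γ}, y ∈ R → y ^ 3 = 1 → y = 1 := by
    intro y hy hy3
    have h1 : y ^ (Nat.card R) = 1 := by
      have := pow_card_eq_one' (x := (⟨y, hy⟩ : R))
      exact congrArg Subtype.val this
    have h2 := pow_gcd_eq_one.mpr ⟨h1, hy3⟩
    have h3 : (Nat.card R).Coprime 3 := Nat.Coprime.coprime_dvd_right (by norm_num) hcop
    rwa [h3.gcd_eq_one, pow_one] at h2
  -- the derived subgroup is centralized
  have hDle : ⁅R, R⁆ ≤ R := by
    rw [Subgroup.commutator_le]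
    intro a ha b hb
    exact R.mul_mem (R.mul_mem (R.mul_mem ha hb) (R.inv_mem ha)) (R.inv_mem hb)
  have hRne1 : x0 ≠ 1 := by
    rintro rfl
    simp at hx0ne
  have hDne : ⁅R, R⁆ ≠ R := by
    intro h
    haveI : Nontrivial R := ⟨⟨x0, hx0⟩, 1, fun h1 => hRne1 (congrArg Subtype.val h1)⟩
    have h1 := Group.IsSolvable.commutator_lt_top_of_nontrivial R
    apply h1.ne
    apply Subgroup.map_injective R.subtype_injective
    rw [Subgroup.map_subtype_commutator, h, ← MonoidHom.range_eq_map, Subgroup.range_subtype]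
  have hDs : ∀ x ∈ ⁅R, R⁆, s * x * s⁻¹ ∈ ⁅R, R⁆ := by
    intro x hx
    have h1 : σ x ∈ (⁅R, R⁆ : Subgroup Γ).map σ.toMonoidHom := ⟨x, hx, rfl⟩
    rw [Subgroup.map_commutator] at h1
    have h2 : R.map σ.toMonoidHom ≤ R := by
      rintro _ ⟨y, hy, rfl⟩
      exact hRσ y hy
    exact Subgroup.commutator_mono h2 h2 h1
  have hDfix := hinh hDle hDne hDs
  -- the subgroup generated by the `x⁻¹ σ(x)`
  let gens : Set Γ := {u | ∃ x ∈ R, u = x⁻¹ * σ x}
  let R1 : Subgroup Γ := Subgroup.closure gens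
  have hR1le : R1 ≤ R := by
    rw [Subgroup.closure_le]
    rintro _ ⟨x, hx, rfl⟩
    exact R.mul_mem (R.inv_mem hx) (hRσ x hx)
  have hR1s : ∀ y ∈ R1, s * y * s⁻¹ ∈ R1 := by
    have h1 : R1 ≤ R1.comap σ.toMonoidHom := by
      rw [Subgroup.closure_le]
      rintro _ ⟨x, hx, rfl⟩
      apply Subgroup.subset_closure
      refine ⟨σ x, hRσ x hx, ?_⟩
      show σ (x⁻¹ * σ x) = _
      rw [map_mul, map_inv]
    exact fun y hy => h1 hy
  have hR1eq : R1 = R := by
    by_contra hne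
    have h1 := hinh hR1le hne hR1s
    apply hx0ne
    set u := x0⁻¹ * σ x0 with hu
    have huR1 : u ∈ R1 := Subgroup.subset_closure ⟨x0, hx0, rfl⟩
    have hσu : σ u = u := h1 u huR1
    have h2 : σ x0 = x0 * u := by rw [hu]; group
    have h3 : σ (σ x0) = x0 * u * u := by rw [h2, map_mul, hσu, h2]
    have h4 : σ (σ (σ x0)) = x0 * u * u * u := by
      rw [h3, map_mul, map_mul, hσu, h2]
    rw [hσ3] at h4
    have h5 : u ^ 3 = 1 := by
      have h6 : x0 * u ^ 3 = x0 * 1 := by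
        rw [mul_one, pow_three]
        nth_rewrite 2 [h4]
        group
      exact mul_left_cancel h6
    have h6 := hcube (hR1le huR1) h5
    show σ x0 = x0
    rw [h2, h6, mul_one]
  -- fixed points are central
  have hZ : ∀ z ∈ R, σ z = z → ∀ x ∈ R, x * z = z * x := by
    intro z hzR hσz
    have h1 : R1 ≤ Subgroup.centralizer {z} := by
      rw [Subgroup.closure_le]
      rintro _ ⟨x, hx, rfl⟩
      have hc : x * z * x⁻¹ * z⁻¹ ∈ ⁅R, R⁆ := Subgroup.commutator_mem_commutator hx hzR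
      have h2 := hDfix _ hc
      have h3 : σ (x * z * x⁻¹ * z⁻¹) = x * z * x⁻¹ * z⁻¹ := h2
      simp only [map_mul, map_inv, hσz] at h3
      have h4 : σ x * z * (σ x)⁻¹ = x * z * x⁻¹ := mul_right_cancel h3
      show x⁻¹ * σ x ∈ Subgroup.centralizer {z}
      rw [Subgroup.mem_centralizer_singleton_iff]
      calc x⁻¹ * σ x * z = x⁻¹ * (σ x * z * (σ x)⁻¹) * σ x := by group
        _ = x⁻¹ * (x * z * x⁻¹) * σ x := by rw [h4]
        _ = z * (x⁻¹ * σ x) := by group
    intro x hx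
    rw [← hR1eq] at hx
    exact (Subgroup.mem_centralizer_singleton_iff.mp (h1 hx))
  have hcmD : ∀ {a b : Γ}, a ∈ R → b ∈ R → cm a b ∈ ⁅R, R⁆ :=
    fun ha hb => Subgroup.commutator_mem_commutator ha hb
  have hcmR : ∀ {a b : Γ}, a ∈ R → b ∈ R → cm a b ∈ R := fun ha hb => hDle (hcmD ha hb)
  have hcmfix : ∀ {a b : Γ}, a ∈ R → b ∈ R → σ (cm a b) = cm a b :=
    fun ha hb => hDfix _ (hcmD ha hb)
  have hz : ∀ g ∈ R, ∀ h ∈ R, ∀ r ∈ R, r * cm g h = cm g h * r :=
    fun g hg h hh r hr => hZ _ (hcmR hg hh) (hcmfix hg hh) r hr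
  have hcmσ : ∀ a b : Γ, σ (cm a b) = cm (σ a) (σ b) := by
    intro a b
    simp [cm]
  obtain ⟨k, hk⟩ : Odd (Nat.card R) := by
    have : (Nat.card R).Coprime 2 := Nat.Coprime.coprime_dvd_right (by norm_num) hcop
    exact (Nat.coprime_two_right).mp this
  -- the operator identity
  have hop : ∀ x ∈ R, cm (x * (σ x)⁻¹) (σ (x * (σ x)⁻¹)) = 1 := by
    intro x hx
    set u := x * (σ x)⁻¹ with hu
    have huR : u ∈ R := R.mul_mem hx (R.inv_mem (hRσ x hx))
    set u' := σ u with hu'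
    have hu'R : u' ∈ R := hRσ u huR
    set t := cm u u' with ht
    have htR : t ∈ R := hcmR huR hu'R
    have hss : s * s = s⁻¹ := by
      rw [eq_inv_iff_mul_eq_one, ← pow_three', hs3]
    have ha := conj_root ρ hs3 hfix 1
    simp only [one_mul, inv_one, mul_one] at ha
    have hb := conj_root ρ hs3 hfix x
    have h1 := alg_comm ha hb
    have h2 : ρ (x * s * x⁻¹) * (ρ s * ρ s) = ρ u := by
      rw [← map_mul, ← map_mul]
      congr 1
      rw [hu, hss, hσa]
      group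
    have h3 : ρ s * (ρ (x * s * x⁻¹) * ρ (x * s * x⁻¹)) = ρ u⁻¹ := by
      rw [← map_mul, ← map_mul]
      congr 1
      have : s * (x * s * x⁻¹ * (x * s * x⁻¹)) = s * x * (s * s) * x⁻¹ := by group
      rw [this, hss, hu, hσa]
      group
    rw [h2, h3] at h1
    have h4 : ρ u' + ρ u'⁻¹ = ρ u + ρ u⁻¹ := by
      have e1 : ρ u' = ρ s * ρ u * ρ s⁻¹ := by
        rw [← map_mul, ← map_mul]; rfl
      have e2 : ρ u'⁻¹ = ρ s * ρ u⁻¹ * ρ s⁻¹ := by
        have : u'⁻¹ = s * u⁻¹ * s⁻¹ := by rw [hu', hσa]; group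
        rw [this, map_mul, map_mul]
      rw [e1, e2, ← add_mul, ← mul_add, h1, mul_assoc, ← map_mul, mul_inv_cancel, map_one, mul_one]
    have hi1 : ∀ g : Γ, ρ g * ρ g⁻¹ = 1 := by
      intro g; rw [← map_mul, mul_inv_cancel, map_one]
    have hi2 : ∀ g : Γ, ρ g⁻¹ * ρ g = 1 := by
      intro g; rw [← map_mul, inv_mul_cancel, map_one]
    have hc : ρ u * ρ u' = ρ t * ρ u' * ρ u := by
      rw [← map_mul, ← map_mul, ← map_mul]
      congr 1
      rw [ht]; simp only [cm]; group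
    have hTU : ρ t * ρ u = ρ u * ρ t := by
      rw [← map_mul, ← map_mul, ht, hz u huR u' hu'R u huR]
    have hTV : ρ t * ρ u' = ρ u' * ρ t := by
      rw [← map_mul, ← map_mul, ht, hz u huR u' hu'R u' hu'R]
    have hT0 := alg_comm2 (hi1 u) (hi2 u) (hi1 u') (hi2 u') (hi1 t) (hi2 t) hc hTU hTV h4.symm
    have hT1 : ρ t = 1 := by
      apply alg_odd hT0 k
      · rw [← map_pow, ← hk]
        have := pow_card_eq_one' (x := (⟨t, htR⟩ : R))
        have h5 : t ^ (Nat.card R) = 1 := congrArg Subtype.val this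
        rw [h5, map_one]
      · intro X hX
        refine LinearMap.ext fun v => ?_
        have h5 := congrArg (fun F : Module.End K V => F v) hX
        simp only [LinearMap.smul_apply, LinearMap.zero_apply] at h5
        rw [← Nat.cast_smul_eq_nsmul K] at h5
        have hK' : ((2 * k + 1 : ℕ) : K) ≠ 0 := by rwa [← hk]
        have h6 := (smul_eq_zero.mp h5).resolve_left hK'
        simpa using h6
    exact hinj (by rw [hT1, map_one])
  have hself : ∀ x ∈ R, cm x (σ x) = 1 := by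
    intro x hx
    have h1 := hop x hx
    set y := σ x with hy
    have hyR : y ∈ R := hRσ x hx
    set w := σ y with hw
    have hwR : w ∈ R := hRσ y hyR
    have hσw : σ w = x := hσ3 x
    have h2 : σ (x * y⁻¹) = y * w⁻¹ := by rw [map_mul, map_inv]
    rw [h2] at h1
    set c := cm x y with hc
    have hcR : c ∈ R := hcmR hx hyR
    have e1 : cm y w = c := by
      rw [hy, hw, ← hcmσ, hcmfix hx (hRσ x hx)]
    have e2 : cm x w = c⁻¹ := by
      have h3 := hcmσ x w
      rw [hcmfix hx hwR, hσw] at h3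
      rw [h3, ← hy, cm_swap]
    have e3 : cm y⁻¹ y = 1 := by simp [cm]
    rw [cm_mul_left hz hx (R.inv_mem hyR) (R.mul_mem hyR (R.inv_mem hwR)),
      cm_mul_right hz hx hyR (R.inv_mem hwR),
      cm_mul_right hz (R.inv_mem hyR) hyR (R.inv_mem hwR), e3, one_mul,
      cm_inv_right hz hx hwR, cm_inv_left hz hyR (R.inv_mem hwR), cm_inv_right hz hyR hwR,
      e1, e2, inv_inv] at h1
    apply hcube hcR
    rw [pow_three']
    rw [← hc] at h1
    exact h1
  have hpol : ∀ a ∈ R, ∀ b ∈ R, cm a (σ b) * cm b (σ a) = 1 := by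
    intro a ha b hb
    have h1 := hself _ (R.mul_mem ha hb)
    rw [map_mul, cm_mul_left hz ha hb (R.mul_mem (hRσ a ha) (hRσ b hb)),
      cm_mul_right hz ha (hRσ a ha) (hRσ b hb), cm_mul_right hz hb (hRσ a ha) (hRσ b hb),
      hself a ha, hself b hb, one_mul, mul_one] at h1
    exact h1
  have hsw : ∀ a ∈ R, ∀ e ∈ R, cm a e = cm a (σ e) := by
    intro a ha e he
    set b := σ (σ e) with hb
    have hbR : b ∈ R := hRσ _ (hRσ e he)
    have h1 := hpol a ha b hbR
    have h2 : σ b = e := hσ3 e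
    rw [h2] at h1
    have h3 : cm a e = cm (σ a) b := by
      rw [cm_swap b (σ a)]
      exact eq_inv_of_mul_eq_one_left h1
    rw [h3]
    have h4 := hcmσ a (σ e)
    rw [hcmfix ha (hRσ e he)] at h4
    rw [h4]
  have hcent : ∀ a ∈ R, ∀ b ∈ R, a * b = b * a := by
    intro a ha
    have h1 : R1 ≤ Subgroup.centralizer {a} := by
      rw [Subgroup.closure_le]
      rintro _ ⟨e, he, rfl⟩
      show e⁻¹ * σ e ∈ Subgroup.centralizer {a}
      rw [Subgroup.mem_centralizer_singleton_iff]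
      have h2 : cm a (e⁻¹ * σ e) = 1 := by
        rw [cm_mul_right hz ha (R.inv_mem he) (hRσ e he), cm_inv_right hz ha he, ← hsw a ha e he,
          inv_mul_cancel]
      have h3 : a * (e⁻¹ * σ e) * a⁻¹ = e⁻¹ * σ e := by
        have := h2
        simp only [cm] at this
        exact mul_inv_eq_one.mp this
      calc e⁻¹ * σ e * a = a * (e⁻¹ * σ e) * a⁻¹ * a := by rw [h3]
        _ = a * (e⁻¹ * σ e) := by group
    intro b hb
    rw [← hR1eq] at hb
    exact (Subgroup.mem_centralizer_singleton_iff.mp (h1 hb)).symm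
  exact hx0ne (centralize_abelian ρ hinj hs3 hfix hcent hRs hK x0 hx0)

end Cfsg.Agent.Lib.S3Fpf
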