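import Mathlib
import Cfsg.Agent.Lib.Coprime.CosetFixed

/-!
# Coprime actions of `S₃` (given by two automorphisms) with trivial fixed points
-/

set_option autoImplicit false
set_option linter.style.haveILetI false

namespace Cfsg.Agent.Lib.S3Fpf

variable {Γ : Type*} [Group Γ]

/-- Two automorphisms satisfying the relations of `S₃`, acting on `H` of order prime to `6`,
with no nontrivial common fixed point in `H`. -/
structure Hyp (σ τ : MulAut Γ) (H : Subgroup Γ) : Prop where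
  s3 : ∀ x, σ (σ (σ x)) = x
  t2 : ∀ x, τ (τ x) = x
  rel : ∀ x, τ (σ x) = σ (σ (τ x))
  fin : Finite H
  cop : (Nat.card H).Coprime 6
  ns : ∀ x ∈ H, σ x ∈ H
  nt : ∀ x ∈ H, τ x ∈ H
  fix : ∀ x ∈ H, σ x = x → τ x = x → x = 1

namespace Hyp

variable {σ τ : MulAut Γ} {H : Subgroup Γ}

theorem mono (h : Hyp σ τ H) {Q : Subgroup Γ} (hQ : Q ≤ H) (ns : ∀ x ∈ Q, σ x ∈ Q)
    (nt : ∀ x ∈ Q, τ x ∈ Q) : Hyp σ τ Q where
  s3 := h.s3
  t2 := h.t2
  rel := h.rel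
  fin := by
    haveI := h.fin
    exact Finite.of_injective _ (Subgroup.inclusion_injective hQ)
  cop := by
    haveI := h.fin
    exact Nat.Coprime.coprime_dvd_left (Subgroup.card_dvd_of_le hQ) h.cop
  ns := ns
  nt := nt
  fix := fun x hx => h.fix x (hQ hx)

theorem odd_card (h : Hyp σ τ H) : Odd (Nat.card H) := by
  have : (Nat.card H).Coprime 2 := Nat.Coprime.coprime_dvd_right (by norm_num) h.cop
  exact (Nat.coprime_two_right).mp this

theorem coprime_three (h : Hyp σ τ H) : (Nat.card H).Coprime 3 :=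
  Nat.Coprime.coprime_dvd_right (by norm_num) h.cop

theorem card_pos (h : Hyp σ τ H) : 0 < Nat.card H := by
  haveI := h.fin
  exact Nat.card_pos

/-- The pair `(σ, σ τ)`. -/
theorem mulLeft (h : Hyp σ τ H) : Hyp σ (σ * τ) H where
  s3 := h.s3
  t2 := by
    intro x
    simp only [MulAut.mul_apply]
    rw [h.rel, h.s3, h.t2]
  rel := by
    intro x
    simp only [MulAut.mul_apply]
    rw [h.rel, h.s3]
  fin := h.fin
  cop := h.cop
  ns := h.ns
  nt := fun x hx => by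
    simp only [MulAut.mul_apply]
    exact h.ns _ (h.nt x hx)
  fix := by
    intro x hx h1 h2
    simp only [MulAut.mul_apply] at h2
    have h3 : τ x = x := by
      have := congrArg σ (congrArg σ h2)
      rw [h.s3, h1, h1] at this
      exact this
    exact h.fix x hx h1 h3

/-- The pair `(σ², τ)`. -/
theorem sq (h : Hyp σ τ H) : Hyp (σ * σ) τ H where
  s3 := by
    intro x
    simp only [MulAut.mul_apply]
    rw [h.s3, h.s3]
  t2 := h.t2
  rel := by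
    intro x
    simp only [MulAut.mul_apply]
    rw [h.rel, h.rel, h.s3]
  fin := h.fin
  cop := h.cop
  ns := fun x hx => by
    simp only [MulAut.mul_apply]
    exact h.ns _ (h.ns x hx)
  nt := h.nt
  fix := by
    intro x hx h1 h2
    simp only [MulAut.mul_apply] at h1
    have h3 : σ x = x := by
      have := congrArg σ h1
      rw [h.s3] at this
      exact this.symm
    exact h.fix x hx h3 h2

/-- `y ∈ H` with `y² ∈ L` lies in `L`. -/
theorem mem_of_sq_mem (h : Hyp σ τ H) (L : Subgroup Γ) {y : Γ} (hy : y ∈ H) (hy2 : y * y ∈ L) :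
    y ∈ L := by
  obtain ⟨k, hk⟩ := h.odd_card
  have h1 : y ^ (Nat.card H) = 1 := by
    have := pow_card_eq_one' (x := (⟨y, hy⟩ : H))
    exact congrArg Subtype.val this
  have h2 : y = (y * y) ^ (k + 1) := by
    rw [← pow_two, ← pow_mul]
    have : 2 * (k + 1) = Nat.card H + 1 := by omega
    rw [this, pow_succ, h1, one_mul]
  rw [h2]
  exact L.pow_mem hy2 _

/-- Square root in `H`: each `y ∈ H` is the square of a power of itself. -/
theorem exists_sqrt (h : Hyp σ τ H) {y : Γ} (hy : y ∈ H) : ∃ k : ℕ, (y ^ k) * (y ^ k) = y := by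
  obtain ⟨k, hk⟩ := h.odd_card
  have h1 : y ^ (Nat.card H) = 1 := by
    have := pow_card_eq_one' (x := (⟨y, hy⟩ : H))
    exact congrArg Subtype.val this
  refine ⟨k + 1, ?_⟩
  rw [← pow_add]
  have : k + 1 + (k + 1) = Nat.card H + 1 := by omega
  rw [this, pow_succ, h1, one_mul]

/-- An element of order dividing `3` in `H` is trivial. -/
theorem eq_one_of_cube (h : Hyp σ τ H) {y : Γ} (hy : y ∈ H) (hy3 : y ^ 3 = 1) : y = 1 := by
  have h1 : y ^ (Nat.card H) = 1 := by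
    have := pow_card_eq_one' (x := (⟨y, hy⟩ : H))
    exact congrArg Subtype.val this
  have := pow_gcd_eq_one.mpr ⟨h1, hy3⟩
  rw [h.coprime_three.gcd_eq_one, pow_one] at this
  exact this

/-- `σ` has a fixed point on a `σ`-stable coset of a `σ`-invariant subgroup `L ≤ H`. -/
theorem exists_fixed_coset (h : Hyp σ τ H) {L : Subgroup Γ} (hLH : L ≤ H)
    (hLs : ∀ x ∈ L, σ x ∈ L) {w : Γ} (hw : w⁻¹ * σ w ∈ L) :
    ∃ l ∈ L, σ (w * l) = w * l := by
  classical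
  haveI := Fact.mk Nat.prime_three
  haveI := h.fin
  haveI : Finite L := Finite.of_injective _ (Subgroup.inclusion_injective hLH)
  let X := {y : Γ // w⁻¹ * y ∈ L}
  have hmap : ∀ y : X, w⁻¹ * σ y.1 ∈ L := by
    intro y
    have h1 : w⁻¹ * σ y.1 = (w⁻¹ * σ w) * σ (w⁻¹ * y.1) := by
      simp only [map_mul, map_inv]
      group
    rw [h1]
    exact L.mul_mem hw (hLs _ y.2)
  let f : X → X := fun y => ⟨σ y.1, hmap y⟩
  have hf3 : ∀ y, f (f (f y)) = y := fun y => Subtype.ext (h.s3 y.1)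
  let φ : Equiv.Perm X :=
    { toFun := f
      invFun := fun y => f (f y)
      left_inv := hf3
      right_inv := hf3 }
  have hφ : φ ^ (3 ^ 1) = 1 := by
    rw [pow_one]
    refine Equiv.ext fun y => ?_
    rw [pow_succ, pow_two]
    exact hf3 y
  let e : X ≃ L :=
    { toFun := fun y => ⟨w⁻¹ * y.1, y.2⟩
      invFun := fun c => ⟨w * c.1, by simp⟩
      left_inv := fun y => by apply Subtype.ext; simp
      right_inv := fun c => by apply Subtype.ext; simp }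
  haveI : Finite X := Finite.of_equiv L e.symm
  have hcard : Nat.card X = Nat.card L := Nat.card_congr e
  have hX : ¬ 3 ∣ Nat.card X := by
    rw [hcard]
    intro hd
    have h2 : 3 ∣ Nat.card H := hd.trans (Subgroup.card_dvd_of_le hLH)
    have := Nat.dvd_gcd h2 (dvd_refl 3)
    rw [h.coprime_three.gcd_eq_one] at this
    omega
  obtain ⟨y, hy⟩ := Cfsg.Agent.Lib.Coprime.CosetFixed.exists_fixed_of_perm_pow φ 1 hφ hX
  refine ⟨w⁻¹ * y.1, y.2, ?_⟩
  have h3 : w * (w⁻¹ * y.1) = y.1 := by group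
  rw [h3]
  exact congrArg Subtype.val hy

/-- `τ` inverts the elements of `H` fixed by `σ`. -/
theorem inv_of_fixed (h : Hyp σ τ H) {y : Γ} (hy : y ∈ H) (hys : σ y = y) : τ y = y⁻¹ := by
  classical
  haveI := h.fin
  let C : Subgroup Γ :=
    { carrier := {x | x ∈ H ∧ σ x = x}
      one_mem' := ⟨H.one_mem, map_one σ⟩
      mul_mem' := fun {a b} ha hb => ⟨H.mul_mem ha.1 hb.1, by rw [map_mul, ha.2, hb.2]⟩
      inv_mem' := fun {a} ha => ⟨H.inv_mem ha.1, by rw [map_inv, ha.2]⟩ }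
  have hCH : C ≤ H := fun x hx => hx.1
  haveI : Finite C := Finite.of_injective _ (Subgroup.inclusion_injective hCH)
  have hτC : ∀ x ∈ C, τ x ∈ C := by
    intro x hx
    refine ⟨h.nt x hx.1, ?_⟩
    have h1 := h.rel x
    rw [hx.2] at h1
    have h2 := congrArg σ h1
    rw [h.s3] at h2
    exact h2
  let f : C → C := fun x => ⟨x.1⁻¹ * τ x.1, C.mul_mem (C.inv_mem x.2) (hτC _ x.2)⟩
  have hinj : Function.Injective f := by
    intro a b hab
    have h1 : a.1⁻¹ * τ a.1 = b.1⁻¹ * τ b.1 := congrArg Subtype.val hab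
    have h2 : τ (b.1 * a.1⁻¹) = b.1 * a.1⁻¹ := by
      rw [map_mul, map_inv]
      have h3 : τ b.1 = b.1 * (a.1⁻¹ * τ a.1) := by rw [h1]; group
      rw [h3]; group
    have h4 : b.1 * a.1⁻¹ ∈ C := C.mul_mem b.2 (C.inv_mem a.2)
    have h5 := h.fix _ h4.1 h4.2 h2
    apply Subtype.ext
    have h6 : b.1 = a.1 := by
      rw [mul_inv_eq_one] at h5
      exact h5
    exact h6.symm
  have hsurj := Finite.injective_iff_surjective.mp hinj
  obtain ⟨x, hx⟩ := hsurj ⟨y, hy, hys⟩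
  have h1 : y = x.1⁻¹ * τ x.1 := (congrArg Subtype.val hx).symm
  rw [h1, map_mul, map_inv, h.t2]
  group

/-- Fixed cosets contain fixed points: the lifting lemma. -/
theorem lift (h : Hyp σ τ H) {L : Subgroup Γ} (hLH : L ≤ H) (hLs : ∀ x ∈ L, σ x ∈ L)
    (hLt : ∀ x ∈ L, τ x ∈ L) {w : Γ} (hwH : w ∈ H) (h1 : w⁻¹ * σ w ∈ L) (h2 : w⁻¹ * τ w ∈ L) :
    w ∈ L := by
  obtain ⟨l, hl, hfix⟩ := h.exists_fixed_coset hLH hLs h1
  set y := w * l with hy
  have hyH : y ∈ H := H.mul_mem hwH (hLH hl)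
  have hinv := h.inv_of_fixed hyH hfix
  have h3 : y⁻¹ * τ y ∈ L := by
    have : y⁻¹ * τ y = l⁻¹ * (w⁻¹ * τ w) * τ l := by
      rw [hy, map_mul]; group
    rw [this]
    exact L.mul_mem (L.mul_mem (L.inv_mem hl) h2) (hLt _ hl)
  rw [hinv] at h3
  have h4 : y * y ∈ L := by
    have := L.inv_mem h3
    simpa using this
  have h5 := h.mem_of_sq_mem L hyH h4
  have h6 : w = y * l⁻¹ := by rw [hy]; group
  rw [h6]
  exact L.mul_mem h5 (L.inv_mem hl)

/-- A subgroup of `H` containing all `x⁻¹ σ(x)` and `x⁻¹ τ(x)` contains `H`. -/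
theorem le_of_comm_mem (h : Hyp σ τ H) {S : Subgroup Γ} (hSH : S ≤ H)
    (h1 : ∀ x ∈ H, x⁻¹ * σ x ∈ S) (h2 : ∀ x ∈ H, x⁻¹ * τ x ∈ S) : H ≤ S := by
  intro w hw
  refine h.lift hSH ?_ ?_ hw (h1 w hw) (h2 w hw)
  · intro x hx
    have : σ x = x * (x⁻¹ * σ x) := by group
    rw [this]
    exact S.mul_mem hx (h1 x (hSH hx))
  · intro x hx
    have : τ x = x * (x⁻¹ * τ x) := by group
    rw [this]
    exact S.mul_mem hx (h2 x (hSH hx))

/-- Decomposition `H = K₁ · K₂`, where `K₂ = σ(K₁)`. -/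
theorem exists_decomp (h : Hyp σ τ H) {K : Subgroup Γ} (hK : K ≤ H)
    (hKn : ∀ g ∈ H, ∀ k ∈ K, g * k * g⁻¹ ∈ K) (hKt : ∀ x ∈ H, x⁻¹ * τ x ∈ K) {a : Γ} (ha : a ∈ H) :
    ∃ k ∈ K, ∃ y, σ (σ y) ∈ K ∧ a = k * y := by
  have hs2H : ∀ y, σ (σ y) ∈ H → y ∈ H := by
    intro y hy
    have := h.ns _ hy
    rwa [h.s3] at this
  have hK2n : ∀ g ∈ H, ∀ y, σ (σ y) ∈ K → σ (σ (g * y * g⁻¹)) ∈ K := by
    intro g hg y hy
    simp only [map_mul, map_inv]
    exact hKn _ (h.ns _ (h.ns _ hg)) _ hy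
  let X : Subgroup Γ :=
    { carrier := {x | ∃ k ∈ K, ∃ y, σ (σ y) ∈ K ∧ x = k * y}
      one_mem' := ⟨1, K.one_mem, 1, by simp [K.one_mem], by simp⟩
      mul_mem' := by
        rintro a b ⟨k, hk, y, hy, rfl⟩ ⟨k', hk', y', hy', rfl⟩
        refine ⟨k * (y * k' * y⁻¹), K.mul_mem hk (hKn _ (hs2H _ (hK hy)) _ hk'), y * y', ?_, ?_⟩
        · simp only [map_mul]
          exact K.mul_mem hy hy'
        · group
      inv_mem' := by
        rintro a ⟨k, hk, y, hy, rfl⟩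
        refine ⟨y⁻¹ * k⁻¹ * y⁻¹⁻¹, hKn _ (H.inv_mem (hs2H _ (hK hy))) _ (K.inv_mem hk), y⁻¹, ?_, ?_⟩
        · simp only [map_inv]
          exact K.inv_mem hy
        · group }
  have hXH : X ≤ H := by
    rintro _ ⟨k, hk, y, hy, rfl⟩
    exact H.mul_mem (hK hk) (hs2H _ (hK hy))
  have hτ : ∀ x ∈ H, x⁻¹ * τ x ∈ X := fun x hx => ⟨_, hKt x hx, 1, by simp [K.one_mem], by simp⟩
  -- the commutators with the second involution lie in `K₂`
  have hτ2 : ∀ x ∈ H, x⁻¹ * σ (τ (σ (σ x))) ∈ X := by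
    intro x hx
    refine ⟨1, K.one_mem, _, ?_, (one_mul _).symm⟩
    simp only [map_mul, map_inv]
    rw [h.s3]
    exact hKt _ (h.ns _ (h.ns _ hx))
  have hs2 : ∀ x ∈ H, x⁻¹ * σ (σ x) ∈ X := by
    intro x hx
    have h1 : σ (σ x) = σ (τ (σ (σ (τ x)))) := by
      rw [← h.rel, h.t2]
    have h2 : x⁻¹ * σ (σ x) = (x⁻¹ * τ x) * ((τ x)⁻¹ * σ (τ (σ (σ (τ x))))) := by
      rw [h1]; group
    rw [h2]
    exact X.mul_mem (hτ x hx) (hτ2 _ (h.nt x hx))
  have hs : ∀ x ∈ H, x⁻¹ * σ x ∈ X := by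
    intro x hx
    have h1 : σ x = σ (σ (σ (σ x))) := by rw [h.s3]
    have h2 : x⁻¹ * σ x = (x⁻¹ * σ (σ x)) * ((σ (σ x))⁻¹ * σ (σ (σ (σ x)))) := by
      rw [← h1]; group
    rw [h2]
    exact X.mul_mem (hs2 x hx) (hs2 _ (h.ns _ (h.ns _ hx)))
  exact h.le_of_comm_mem hXH hs hτ ha

/-- If `K ⊴ H` contains all `x⁻¹ τ(x)`, then `K` contains the derived subgroup of `H`. -/
theorem commutator_mem (h : Hyp σ τ H) {K : Subgroup Γ} (hK : K ≤ H)
    (hKn : ∀ g ∈ H, ∀ k ∈ K, g * k * g⁻¹ ∈ K) (hKt : ∀ x ∈ H, x⁻¹ * τ x ∈ K) {a b : Γ}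
    (ha : a ∈ H) (hb : b ∈ H) : a * b * a⁻¹ * b⁻¹ ∈ K := by
  -- the two other conjugates
  let K2 : Subgroup Γ := K.comap ((σ * σ : MulAut Γ) : Γ →* Γ)
  let K3 : Subgroup Γ := K.comap ((σ : MulAut Γ) : Γ →* Γ)
  have hm2 : ∀ {x}, x ∈ K2 ↔ σ (σ x) ∈ K := Iff.rfl
  have hm3 : ∀ {x}, x ∈ K3 ↔ σ x ∈ K := Iff.rfl
  have hK2H : K2 ≤ H := by
    intro y hy
    have := h.ns _ (hK (hm2.mp hy))
    rwa [h.s3] at this
  have hK3H : K3 ≤ H := by
    intro y hy
    have := h.ns _ (h.ns _ (hK (hm3.mp hy)))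
    rwa [h.s3] at this
  have h12 : ∀ {x}, x ∈ K → σ x ∈ K2 := by
    intro x hx
    rw [hm2, h.s3]; exact hx
  have h23 : ∀ {x}, x ∈ K2 → σ x ∈ K3 := fun hx => hx
  have h31 : ∀ {x}, x ∈ K3 → σ x ∈ K := fun hx => hx
  have hn2 : ∀ g ∈ H, ∀ x ∈ K2, g * x * g⁻¹ ∈ K2 := by
    intro g hg x hx
    rw [hm2]
    simp only [map_mul, map_inv]
    exact hKn _ (h.ns _ (h.ns _ hg)) _ (hm2.mp hx)
  have hn3 : ∀ g ∈ H, ∀ x ∈ K3, g * x * g⁻¹ ∈ K3 := by
    intro g hg x hx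
    rw [hm3]
    simp only [map_mul, map_inv]
    exact hKn _ (h.ns _ hg) _ (hm3.mp hx)
  have ht1 : ∀ {x}, x ∈ K → τ x ∈ K := by
    intro x hx
    have : τ x = x * (x⁻¹ * τ x) := by group
    rw [this]
    exact K.mul_mem hx (hKt x (hK hx))
  have ht2 : ∀ {x}, x ∈ K2 → τ x ∈ K3 := by
    intro x hx
    rw [hm3]
    have : σ (τ x) = τ (σ (σ x)) := by rw [h.rel, h.rel, h.s3]
    rw [this]
    exact ht1 (hm2.mp hx)
  have ht3 : ∀ {x}, x ∈ K3 → τ x ∈ K2 := by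
    intro x hx
    rw [hm2, ← h.rel]
    exact ht1 (hm3.mp hx)
  -- decompositions
  obtain ⟨k, hk, a2, ha2, rfl⟩ := h.exists_decomp hK hKn hKt ha
  have hsq := h.sq
  obtain ⟨k', hk', b3, hb3', rfl⟩ := hsq.exists_decomp hK hKn hKt hb
  have hb3 : b3 ∈ K3 := by
    simp only [MulAut.mul_apply] at hb3'
    rw [h.s3] at hb3'
    exact hb3'
  have ha2' : a2 ∈ K2 := ha2
  have ha2H := hK2H ha2'
  have hb3H := hK3H hb3
  set c := a2 * b3 * a2⁻¹ * b3⁻¹ with hc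
  have hc2 : c ∈ K2 := by
    have : c = a2 * (b3 * a2⁻¹ * b3⁻¹) := by rw [hc]; group
    rw [this]
    exact K2.mul_mem ha2' (hn2 _ hb3H _ (K2.inv_mem ha2'))
  have hc3 : c ∈ K3 := by
    have : c = (a2 * b3 * a2⁻¹) * b3⁻¹ := by rw [hc]
    rw [this]
    exact K3.mul_mem (hn3 _ ha2H _ hb3) (K3.inv_mem hb3)
  -- the key element
  set p := σ c with hp
  set q := σ p with hq
  have hp3 : p ∈ K3 := h23 hc2
  have hp1 : p ∈ K := h31 hc3
  have hq1 : q ∈ K := h31 hp3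
  have hq2 : q ∈ K2 := h12 hp1
  have hpH : p ∈ H := hK hp1
  have hqH : q ∈ H := hK hq1
  have hcH : c ∈ H := hK2H hc2
  have hσq : σ q = c := h.s3 c
  let L : Subgroup Γ := K ⊓ (K2 ⊓ K3)
  have hLH : L ≤ H := fun x hx => hK hx.1
  have hLs : ∀ x ∈ L, σ x ∈ L := fun x hx => ⟨h31 hx.2.2, h12 hx.1, h23 hx.2.1⟩
  have hLt : ∀ x ∈ L, τ x ∈ L := fun x hx => ⟨ht1 hx.1, ht3 hx.2.2, ht2 hx.2.1⟩
  have hw : c * p * q ∈ L := by
    apply h.lift hLH hLs hLt (H.mul_mem (H.mul_mem hcH hpH) hqH)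
    · -- the `σ`-commutator
      have h1 : σ (c * p * q) = p * q * c := by
        simp only [map_mul]
        rw [hσq]
      have h2 : (c * p * q)⁻¹ * σ (c * p * q) = (p * q)⁻¹ * c⁻¹ * (p * q) * c := by
        rw [h1]; group
      rw [h2]
      have hd1 : p * q ∈ K := K.mul_mem hp1 hq1
      have hdH : p * q ∈ H := hK hd1
      refine ⟨?_, ?_, ?_⟩
      · have : (p * q)⁻¹ * c⁻¹ * (p * q) * c = (p * q)⁻¹ * (c⁻¹ * (p * q) * c⁻¹⁻¹) := by group
        rw [this]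
        exact K.mul_mem (K.inv_mem hd1) (hKn _ (H.inv_mem hcH) _ hd1)
      · have : (p * q)⁻¹ * c⁻¹ * (p * q) * c = ((p * q)⁻¹ * c⁻¹ * (p * q)⁻¹⁻¹) * c := by group
        rw [this]
        exact K2.mul_mem (hn2 _ (H.inv_mem hdH) _ (K2.inv_mem hc2)) hc2
      · have : (p * q)⁻¹ * c⁻¹ * (p * q) * c = ((p * q)⁻¹ * c⁻¹ * (p * q)⁻¹⁻¹) * c := by group
        rw [this]
        exact K3.mul_mem (hn3 _ (H.inv_mem hdH) _ (K3.inv_mem hc3)) hc3
    · -- the `τ`-commutator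
      set c' := τ c with hc'
      have hc'2 : c' ∈ K2 := ht3 hc3
      have hc'3 : c' ∈ K3 := ht2 hc2
      set γ := c⁻¹ * c' with hγ
      have hγ1 : γ ∈ K := hKt c hcH
      have hγ2 : γ ∈ K2 := K2.mul_mem (K2.inv_mem hc2) hc'2
      have hγ3 : γ ∈ K3 := K3.mul_mem (K3.inv_mem hc3) hc'3
      have hc'e : c' = c * γ := by rw [hγ]; group
      have hτp : τ p = σ (σ c') := by rw [hp, h.rel]
      have hτq : τ q = σ c' := by
        rw [hq, h.rel, hτp, h.s3]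
      have hp' : σ c' = p * σ γ := by rw [hc'e, map_mul]
      have hq' : σ (σ c') = q * σ (σ γ) := by rw [hp', map_mul]
      have he : (c * p * q)⁻¹ * τ (c * p * q) = q⁻¹ * p⁻¹ * γ * σ (σ c') * σ c' := by
        simp only [map_mul]
        rw [hτp, hτq, ← hc', hc'e]
        group
      rw [he]
      have hp'1 : σ c' ∈ K := h31 hc'3
      have hp'3 : σ c' ∈ K3 := h23 hc'2
      have hq'1 : σ (σ c') ∈ K := h31 hp'3
      have hq'2 : σ (σ c') ∈ K2 := h12 hp'1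
      refine ⟨?_, ?_, ?_⟩
      · exact K.mul_mem (K.mul_mem (K.mul_mem (K.mul_mem (K.inv_mem hq1) (K.inv_mem hp1)) hγ1)
          hq'1) hp'1
      · have : q⁻¹ * p⁻¹ * γ * σ (σ c') * σ c' =
            q⁻¹ * (p⁻¹ * (γ * σ (σ c')) * p⁻¹⁻¹) * σ γ := by
          rw [hp']; group
        rw [this]
        exact K2.mul_mem (K2.mul_mem (K2.inv_mem hq2)
          (hn2 _ (H.inv_mem hpH) _ (K2.mul_mem hγ2 hq'2))) (h12 hγ1)
      · have : q⁻¹ * p⁻¹ * γ * σ (σ c') * σ c' =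
            (q⁻¹ * (p⁻¹ * γ) * q⁻¹⁻¹) * σ (σ γ) * σ c' := by
          rw [hq']; group
        rw [this]
        exact K3.mul_mem (K3.mul_mem (hn3 _ (H.inv_mem hqH) _ (K3.mul_mem (K3.inv_mem hp3) hγ3))
          (h23 (h12 hγ1))) hp'3
  have hc1 : c ∈ K := by
    have : c = (c * p * q) * q⁻¹ * p⁻¹ := by group
    rw [this]
    exact K.mul_mem (K.mul_mem hw.1 (K.inv_mem hq1)) (K.inv_mem hp1)
  have he : (k * a2) * (k' * b3) * (k * a2)⁻¹ * (k' * b3)⁻¹ =
      k * ((a2 * k' * a2⁻¹) * c * k'⁻¹) * ((k' * b3) * k⁻¹ * (k' * b3)⁻¹) := by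
    rw [hc]; group
  rw [he]
  refine K.mul_mem (K.mul_mem hk (K.mul_mem (K.mul_mem (hKn _ ha2H _ hk') hc1) (K.inv_mem hk')))
    (hKn _ hb _ (K.inv_mem hk))

end Hyp

/-- Orbit arguments: if `s` and `t` stabilize the `H`-orbit of `ξ`, they fix a point of it. -/
theorem exists_fixed_in_orbit {X : Type*} [MulAction Γ X] {s t : Γ} {H : Subgroup Γ}
    (hs3 : s ^ 3 = 1) (ht2 : t ^ 2 = 1) (hrel : t * s * t⁻¹ = s⁻¹)
    (h : Hyp (MulAut.conj s) (MulAut.conj t) H) (ξ : X)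
    (h1 : ∃ g ∈ H, s • ξ = g • ξ) (h2 : ∃ g ∈ H, t • ξ = g • ξ) :
    ∃ g ∈ H, s • g • ξ = g • ξ ∧ t • g • ξ = g • ξ := by
  classical
  haveI := Fact.mk Nat.prime_three
  haveI := h.fin
  have hsH : ∀ x ∈ H, s * x * s⁻¹ ∈ H := h.ns
  have htH : ∀ x ∈ H, t * x * t⁻¹ ∈ H := h.nt
  -- commutation formula in the action
  have hcomm : ∀ (a g : Γ) (ν : X), a • g • ν = (a * g * a⁻¹) • a • ν := by
    intro a g ν
    rw [smul_smul, smul_smul]
    congr 1
    group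
  obtain ⟨g1, hg1, he1⟩ := h1
  obtain ⟨g2, hg2, he2⟩ := h2
  -- the orbit
  let O := {ν : X // ∃ g ∈ H, ν = g • ξ}
  have hsO : ∀ ν : O, ∃ g ∈ H, s • ν.1 = g • ξ := by
    rintro ⟨ν, g, hg, rfl⟩
    refine ⟨(s * g * s⁻¹) * g1, H.mul_mem (hsH g hg) hg1, ?_⟩
    show s • g • ξ = _
    rw [hcomm, he1, smul_smul]
  let f : O → O := fun ν => ⟨s • ν.1, hsO ν⟩
  have hs3' : ∀ ν : X, s • s • s • ν = ν := by
    intro ν
    rw [smul_smul, smul_smul, ← pow_three', hs3, one_smul]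
  have hf3 : ∀ ν, f (f (f ν)) = ν := fun ν => Subtype.ext (hs3' ν.1)
  let φ : Equiv.Perm O :=
    { toFun := f
      invFun := fun y => f (f y)
      left_inv := hf3
      right_inv := hf3 }
  have hφ : φ ^ (3 ^ 1) = 1 := by
    rw [pow_one]
    refine Equiv.ext fun y => ?_
    rw [pow_succ, pow_two]
    exact hf3 y
  -- size of the orbit
  let e : H ⧸ (MulAction.stabilizer H ξ) ≃ MulAction.orbit H ξ :=
    (MulAction.orbitEquivQuotientStabilizer H ξ).symm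
  let e2 : MulAction.orbit H ξ ≃ O :=
    { toFun := fun ν => ⟨ν.1, by
        obtain ⟨g, hg⟩ := ν.2
        exact ⟨g.1, g.2, hg.symm⟩⟩
      invFun := fun ν => ⟨ν.1, by
        obtain ⟨g, hg, he⟩ := ν.2
        exact ⟨⟨g, hg⟩, he.symm⟩⟩
      left_inv := fun ν => rfl
      right_inv := fun ν => rfl }
  haveI : Finite O := Finite.of_equiv _ (e.trans e2)
  have hcardO : Nat.card O ∣ Nat.card H := by
    have : Nat.card O = (MulAction.stabilizer H ξ).index := by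
      rw [Subgroup.index]
      exact (Nat.card_congr (e.trans e2)).symm
    rw [this]
    exact Subgroup.index_dvd_card _
  have hO : ¬ 3 ∣ Nat.card O := by
    intro hd
    have h3 := Nat.dvd_gcd (hd.trans hcardO) (dvd_refl 3)
    rw [h.coprime_three.gcd_eq_one] at h3
    omega
  obtain ⟨ν0, hν0⟩ := Cfsg.Agent.Lib.Coprime.CosetFixed.exists_fixed_of_perm_pow φ 1 hφ hO
  obtain ⟨g0, hg0, hg0e⟩ := ν0.2
  set μ := ν0.1 with hμ
  have hsμ : s • μ = μ := congrArg Subtype.val hν0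
  have hsinvμ : s⁻¹ • μ = μ := by
    conv_lhs => rw [← hsμ]
    rw [inv_smul_smul]
  -- `t • μ` lies in the orbit of `μ`, and is fixed by `s`
  have htμ : ∃ g ∈ H, t • μ = g • μ := by
    refine ⟨(t * g0 * t⁻¹) * g2 * g0⁻¹, H.mul_mem (H.mul_mem (htH _ hg0) hg2) (H.inv_mem hg0), ?_⟩
    rw [hg0e, hcomm, he2, smul_smul, smul_smul]
    congr 1
    group
  obtain ⟨g, hg, hgμ⟩ := htμ
  have hst : s * t = t * s⁻¹ := by
    have h1 : t * s⁻¹ * t⁻¹ = s := by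
      have := congrArg (·⁻¹) hrel
      simpa [mul_assoc] using this
    calc s * t = (t * s⁻¹ * t⁻¹) * t := by rw [h1]
      _ = t * s⁻¹ := by group
  have hstμ : s • t • μ = t • μ := by
    rw [smul_smul, hst, mul_smul, hsinvμ]
  -- the stabilizer of `μ` in `H`
  let L : Subgroup Γ :=
    { carrier := {x | x ∈ H ∧ x • μ = μ}
      one_mem' := ⟨H.one_mem, one_smul _ _⟩
      mul_mem' := fun {a b} ha hb => ⟨H.mul_mem ha.1 hb.1, by rw [mul_smul, hb.2, ha.2]⟩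
      inv_mem' := fun {a} ha => ⟨H.inv_mem ha.1, by
        conv_lhs => rw [← ha.2]
        rw [inv_smul_smul]⟩ }
  have hLH : L ≤ H := fun x hx => hx.1
  have hLs : ∀ x ∈ L, MulAut.conj s x ∈ L := by
    intro x hx
    refine ⟨h.ns x hx.1, ?_⟩
    rw [MulAut.conj_apply, mul_smul, mul_smul, hsinvμ, hx.2, hsμ]
  have hsg : (s * g * s⁻¹) • μ = g • μ := by
    rw [mul_smul, mul_smul, hsinvμ, ← hgμ, hstμ]
  have hgL : g⁻¹ * MulAut.conj s g ∈ L := by
    refine ⟨H.mul_mem (H.inv_mem hg) (h.ns g hg), ?_⟩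
    rw [MulAut.conj_apply, mul_smul, hsg, inv_smul_smul]
  obtain ⟨l, hl, hfix⟩ := h.exists_fixed_coset hLH hLs hgL
  set y := g * l with hy
  have hyH : y ∈ H := H.mul_mem hg (hLH hl)
  have hyμ : y • μ = t • μ := by
    rw [hy, mul_smul, hl.2, hgμ]
  have hyinv := h.inv_of_fixed hyH hfix
  obtain ⟨k, hk⟩ := h.exists_sqrt hyH
  set z := y ^ k with hz
  have hzH : z ∈ H := H.pow_mem hyH k
  have hsz : s * z * s⁻¹ = z := by
    have : MulAut.conj s z = z := by rw [hz, map_pow, hfix]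
    simpa [MulAut.conj_apply] using this
  have htz : t * z * t⁻¹ = z⁻¹ := by
    have : MulAut.conj t z = z⁻¹ := by rw [hz, map_pow, hyinv, inv_pow]
    simpa [MulAut.conj_apply] using this
  refine ⟨z * g0, H.mul_mem hzH hg0, ?_, ?_⟩
  · rw [mul_smul, ← hg0e, hcomm, hsz, hsμ]
  · rw [mul_smul, ← hg0e, hcomm, htz, ← hyμ, ← hk, mul_smul, inv_smul_smul]

end Cfsg.Agent.Lib.S3Fpf
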