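import Mathlib
import Cfsg.Agent.Lib.S3Fpf.Group

/-!
# `S₃`-actions on abelian groups of characters: orbits
-/

set_option autoImplicit false
set_option linter.style.haveILetI false

namespace Cfsg.Agent.Lib.S3Fpf

/-- The stabilizer of `ξ` in `H`, as a subgroup of the ambient group. -/
def stabIn {Γ : Type*} [Group Γ] {X : Type*} [MulAction Γ X] (H : Subgroup Γ) (ξ : X) :
    Subgroup Γ where
  carrier := {x | x ∈ H ∧ x • ξ = ξ}
  one_mem' := ⟨H.one_mem, one_smul _ _⟩
  mul_mem' := fun {a b} ha hb => ⟨H.mul_mem ha.1 hb.1, by rw [mul_smul, hb.2, ha.2]⟩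
  inv_mem' := fun {a} ha => ⟨H.inv_mem ha.1, by
    conv_lhs => rw [← ha.2]
    rw [inv_smul_smul]⟩

theorem smul_conj_aux {Γ : Type*} [Group Γ] {X : Type*} [MulAction Γ X] (a g : Γ) (ν : X) :
    a • g • ν = (a * g * a⁻¹) • a • ν := by
  rw [smul_smul, smul_smul]
  congr 1
  group

/-- Stability of the orbit under `a` follows from a fixed point of `a` in the orbit. -/
theorem stable_of_fixed {Γ : Type*} [Group Γ] {X : Type*} [MulAction Γ X] {H : Subgroup Γ}
    {a g : Γ} {ξ : X} (hg : g ∈ H)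
    (han : ∀ x ∈ H, a * x * a⁻¹ ∈ H) (h1 : a • g • ξ = g • ξ) : ∃ k ∈ H, a • ξ = k • ξ := by
  refine ⟨(a * g * a⁻¹)⁻¹ * g, H.mul_mem (H.inv_mem (han g hg)) hg, ?_⟩
  rw [smul_conj_aux] at h1
  rw [mul_smul, ← h1, inv_smul_smul]

variable {Γ : Type*} [Group Γ] {X : Type*} [CommGroup X] [MulDistribMulAction Γ X]
  {s t : Γ} {H : Subgroup Γ}

/-- If `t` fixes all points of the `H`-orbit of `ξ`, then `H` fixes `ξ`. -/
theorem fixes_of_t (hs3 : s ^ 3 = 1) (ht2 : t ^ 2 = 1) (hrel : t * s * t⁻¹ = s⁻¹)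
    (h : Hyp (MulAut.conj s) (MulAut.conj t) H) (hX : ∀ x : X, s • x = x → t • x = x → x = 1)
    {ξ : X} (hO : ∀ g ∈ H, t • g • ξ = g • ξ) : ∀ g ∈ H, g • ξ = ξ := by
  have hss : s * s = s⁻¹ := by
    rw [eq_inv_iff_mul_eq_one, ← pow_three', hs3]
  have hsi : s⁻¹ * s⁻¹ = s := by
    rw [← hss, mul_assoc s s (s * s)]
    have : s * (s * (s * s)) = s ^ 3 * s := by
      rw [pow_three']; group
    rw [this, hs3, one_mul]
  have hts : t * s = s⁻¹ * t := by
    rw [← hrel]; group
  have hs3' : ∀ ν : X, s • s • s • ν = ν := by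
    intro ν
    rw [smul_smul, smul_smul, ← pow_three', hs3, one_smul]
  have hts1 : ∀ ν : X, t • s • ν = s • s • t • ν := by
    intro ν
    rw [smul_smul, hts, smul_smul, mul_smul, hss]
  have htss : ∀ ν : X, t • s • s • ν = s • t • ν := by
    intro ν
    rw [hts1, hts1, hs3']
  have htξ : t • ξ = ξ := by
    have := hO 1 H.one_mem
    simpa using this
  -- the norm identity on `t`-fixed points
  have hθ : ∀ ν : X, t • ν = ν → ν * (s • ν) * (s • s • ν) = 1 := by
    intro ν hν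
    apply hX
    · simp only [smul_mul']
      rw [hs3', mul_comm (s • ν), mul_comm _ ν, mul_assoc]
      ac_rfl
    · simp only [smul_mul']
      rw [htss, hts1, hν]
      ac_rfl
  -- key identity
  have hkey : ∀ g ∈ H, (s⁻¹ * g * s) • ξ = g • ξ := by
    intro g hg
    have hsinvH : ∀ x ∈ H, s⁻¹ * x * s ∈ H := by
      intro x hx
      have : s⁻¹ * x * s = s * (s * x * s⁻¹) * s⁻¹ := by
        calc s⁻¹ * x * s = (s * s) * x * (s⁻¹ * s⁻¹) := by rw [hss, hsi]
          _ = s * (s * x * s⁻¹) * s⁻¹ := by group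
      rw [this]
      exact h.ns _ (h.ns _ hx)
    set g1 := s⁻¹ * g * s with hg1
    set g2 := s⁻¹ * g1 * s with hg2
    have hg1H : g1 ∈ H := hsinvH g hg
    have hg2H : g2 ∈ H := hsinvH g1 hg1H
    have e1 := hθ (g • ξ) (hO g hg)
    have e2 : (g • ξ) * (g • s • ξ) * (g • s • s • ξ) = 1 := by
      have := hθ ξ htξ
      have h1 := congrArg (g • ·) this
      simpa only [smul_mul', smul_one] using h1
    have e3 : g • s • ξ = s • g1 • ξ := by
      rw [smul_smul, smul_smul, hg1]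
      congr 1
      group
    have e4 : g • s • s • ξ = s • s • g2 • ξ := by
      rw [smul_smul, smul_smul, smul_smul, smul_smul, hg2, hg1]
      congr 1
      group
    rw [e3, e4] at e2
    set a := g • ξ with ha
    set a1 := g1 • ξ with ha1
    set a2 := g2 • ξ with ha2
    have ht : t • a = a := hO g hg
    have ht1 : t • a1 = a1 := hO g1 hg1H
    have ht2' : t • a2 = a2 := hO g2 hg2H
    have e5 : (s • a) * (s • s • a) = (s • a1) * (s • s • a2) := by
      have : a * ((s • a) * (s • s • a)) = a * ((s • a1) * (s • s • a2)) := by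
        rw [← mul_assoc, e1, ← mul_assoc, e2]
      exact mul_left_cancel this
    set u := a / a1 with hu
    set w := a2 / a with hw
    have htu : t • u = u := by rw [hu, smul_div', ht, ht1]
    have htw : t • w = w := by rw [hw, smul_div', ht, ht2']
    have huw : s • u = s • s • w := by
      rw [hu, hw, smul_div', smul_div', smul_div', div_eq_div_iff_mul_eq_mul]
      rw [e5]
      ac_rfl
    have h1 : s • s • u = s • w := by
      have : t • s • u = t • s • s • w := by rw [huw]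
      rwa [hts1, htss, htu, htw] at this
    have h2 : s • u = w := by
      have : s⁻¹ • s • s • u = s⁻¹ • s • w := by rw [h1]
      simpa using this
    set y := s • u with hy
    have hy1 : y = s • s • y := by
      conv_lhs => rw [huw, ← h2]
    have hsy : s • y = y := by
      have : s • y = s • s • s • y := by rw [← hy1]
      rw [hs3'] at this
      exact this
    have hty : t • y = y := by
      rw [hy, hts1, htu, ← hy, hsy]
    have hy1' : y = 1 := hX y hsy hty
    have hu1 : u = 1 := by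
      have : s⁻¹ • y = s⁻¹ • (1 : X) := by rw [hy1']
      simpa [hy] using this
    have : a = a1 := by
      rw [hu] at hu1
      exact (div_eq_one.mp hu1)
    exact this.symm
  intro g hg
  have hSH : stabIn H ξ ≤ H := fun x hx => hx.1
  have hle : H ≤ stabIn H ξ := by
    apply h.le_of_comm_mem hSH
    · intro x hx
      refine ⟨H.mul_mem (H.inv_mem hx) (h.ns x hx), ?_⟩
      have h1 := hkey (s * x * s⁻¹) (h.ns x hx)
      have h2 : s⁻¹ * (s * x * s⁻¹) * s = x := by group
      rw [h2] at h1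
      rw [MulAut.conj_apply, mul_smul, ← h1, inv_smul_smul]
    · intro x hx
      refine ⟨H.mul_mem (H.inv_mem hx) (h.nt x hx), ?_⟩
      have h1 := hO x hx
      rw [smul_conj_aux, htξ] at h1
      rw [MulAut.conj_apply, mul_smul, h1, inv_smul_smul]
  exact (hle hg).2

/-- If `s` fixes all points of the `H`-orbit of `ξ`, then `H` fixes `ξ`. -/
theorem fixes_of_s (hs3 : s ^ 3 = 1) (ht2 : t ^ 2 = 1) (hrel : t * s * t⁻¹ = s⁻¹)
    (h : Hyp (MulAut.conj s) (MulAut.conj t) H) (hX : ∀ x : X, s • x = x → t • x = x → x = 1)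
    {ξ : X} (hO : ∀ g ∈ H, s • g • ξ = g • ξ) : ∀ g ∈ H, g • ξ = ξ := by
  have hst : s * t = t * s⁻¹ := by
    have h1 : t * s⁻¹ * t⁻¹ = s := by
      have := congrArg (·⁻¹) hrel
      simpa [mul_assoc] using this
    calc s * t = (t * s⁻¹ * t⁻¹) * t := by rw [h1]
      _ = t * s⁻¹ := by group
  have hsξ : s • ξ = ξ := by
    have := hO 1 H.one_mem
    simpa using this
  have htt : ∀ ν : X, t • t • ν = ν := by
    intro ν
    rw [smul_smul, ← pow_two, ht2, one_smul]
  have hinv : ∀ ν : X, s • ν = ν → t • ν = ν⁻¹ := by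
    intro ν hν
    have hs' : s⁻¹ • ν = ν := by
      conv_lhs => rw [← hν]
      rw [inv_smul_smul]
    have : ν * t • ν = 1 := by
      apply hX
      · rw [smul_mul', hν, smul_smul, hst, mul_smul, hs']
      · rw [smul_mul', htt, mul_comm]
    exact eq_inv_of_mul_eq_one_right this
  intro g hg
  have hSH : stabIn H ξ ≤ H := fun x hx => hx.1
  have hle : H ≤ stabIn H ξ := by
    apply h.le_of_comm_mem hSH
    · intro x hx
      refine ⟨H.mul_mem (H.inv_mem hx) (h.ns x hx), ?_⟩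
      have h1 := hO x hx
      rw [smul_conj_aux, hsξ] at h1
      rw [MulAut.conj_apply, mul_smul, h1, inv_smul_smul]
    · intro x hx
      refine ⟨H.mul_mem (H.inv_mem hx) (h.nt x hx), ?_⟩
      have h1 := hinv _ (hO x hx)
      rw [smul_conj_aux, hinv _ hsξ, smul_inv'] at h1
      have h2 : (t * x * t⁻¹) • ξ = x • ξ := inv_inj.mp h1
      rw [MulAut.conj_apply, mul_smul, h2, inv_smul_smul]
  exact (hle hg).2

/-- **Main orbit lemma**: a nontrivial point of an `H`-invariant set all of whose points have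
nontrivial stabilizers in `S₃` is fixed by `H`. -/
theorem fixes_main (hs3 : s ^ 3 = 1) (ht2 : t ^ 2 = 1) (hrel : t * s * t⁻¹ = s⁻¹)
    (h : Hyp (MulAut.conj s) (MulAut.conj t) H) (hX : ∀ x : X, s • x = x → t • x = x → x = 1)
    (Ω : Set X) (hΩ : ∀ g ∈ H, ∀ x ∈ Ω, g • x ∈ Ω)
    (hF : ∀ x ∈ Ω, s • x = x ∨ t • x = x ∨ (s * t) • x = x ∨ (s * (s * t)) • x = x)
    {ξ : X} (hξ : ξ ∈ Ω) (hne : ξ ≠ 1) : ∀ g ∈ H, g • ξ = ξ := by
  -- if both stabilise the orbit we get a fixed point, a contradiction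
  have hno : ∀ {t' : Γ}, t' ^ 2 = 1 → t' * s * t'⁻¹ = s⁻¹ →
      Hyp (MulAut.conj s) (MulAut.conj t') H → (∀ x : X, s • x = x → t' • x = x → x = 1) →
      (∃ g ∈ H, s • ξ = g • ξ) → (∃ g ∈ H, t' • ξ = g • ξ) → False := by
    intro t' ht' hrel' h' hX' h1 h2
    obtain ⟨g, hg, h3, h4⟩ := exists_fixed_in_orbit hs3 ht' hrel' h' ξ h1 h2
    have h5 := hX' _ h3 h4
    apply hne
    have : g⁻¹ • g • ξ = g⁻¹ • (1 : X) := by rw [h5]
    simpa using this
  have hss : s * s = s⁻¹ := by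
    rw [eq_inv_iff_mul_eq_one, ← pow_three', hs3]
  have hs4 : s * (s * (s * s)) = s := by
    have : s * (s * (s * s)) = s ^ 3 * s := by
      rw [pow_three']; group
    rw [this, hs3, one_mul]
  have hs31 : ∀ y : Γ, s * (s * (s * y)) = y := by
    intro y
    have : s * (s * (s * y)) = s ^ 3 * y := by
      rw [pow_three']; group
    rw [this, hs3, one_mul]
  have hsn : ∀ x ∈ H, s * x * s⁻¹ ∈ H := h.ns
  have hsinvn : ∀ x ∈ H, s⁻¹ * x * s ∈ H := by
    intro x hx
    have h1 : s⁻¹ * x * s = (s * s) * x * (s * s)⁻¹ := by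
      rw [hss]; group
    rw [h1]
    have h2 : (s * s) * x * (s * s)⁻¹ = s * (s * x * s⁻¹) * s⁻¹ := by group
    rw [h2]
    exact hsn _ (hsn _ hx)
  -- the case of an involution
  let Valid : Γ → Prop := fun t' => t' ^ 2 = 1 ∧ t' * s * t'⁻¹ = s⁻¹ ∧
    Hyp (MulAut.conj s) (MulAut.conj t') H ∧ (∀ x : X, s • x = x → t' • x = x → x = 1) ∧
    (∀ x ∈ Ω, s • x = x ∨ t' • x = x ∨ (s * t') • x = x ∨ (s * (s * t')) • x = x)
  have hstep : ∀ {t'}, Valid t' → Valid (s * t') := by
    rintro t' ⟨h1, h2, h3, h4, h5⟩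
    have hrel1 : t' * s = s⁻¹ * t' := by
      rw [← h2]; group
    have ht'inv : t'⁻¹ = t' := by
      rw [inv_eq_iff_mul_eq_one, ← pow_two, h1]
    refine ⟨?_, ?_, ?_, ?_, ?_⟩
    · rw [pow_two]
      calc s * t' * (s * t') = s * (t' * s) * t' := by group
        _ = s * (s⁻¹ * t') * t' := by rw [hrel1]
        _ = t' * t' := by group
        _ = 1 := by rw [← pow_two, h1]
    · calc s * t' * s * (s * t')⁻¹ = s * (t' * s) * t'⁻¹ * s⁻¹ := by group
        _ = s * (s⁻¹ * t') * t'⁻¹ * s⁻¹ := by rw [hrel1]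
        _ = s⁻¹ := by group
    · rw [map_mul]
      exact h3.mulLeft
    · intro x hx1 hx2
      apply h4 x hx1
      rw [mul_smul] at hx2
      have : s⁻¹ • s • t' • x = s⁻¹ • x := by rw [hx2]
      rw [inv_smul_smul] at this
      rw [this]
      conv_lhs => rw [← hx1]
      rw [inv_smul_smul]
    · intro x hx
      rcases h5 x hx with h6 | h6 | h6 | h6
      · exact Or.inl h6
      · refine Or.inr (Or.inr (Or.inr ?_))
        rw [hs31]
        exact h6
      · exact Or.inr (Or.inl h6)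
      · exact Or.inr (Or.inr (Or.inl h6))
  have hcaseT : ∀ {t'}, Valid t' → t' • ξ = ξ → ∀ g ∈ H, g • ξ = ξ := by
    rintro t' ⟨h1, h2, h3, h4, h5⟩ ht'ξ
    apply fixes_of_t hs3 h1 h2 h3 h4
    intro g hg
    have hνΩ := hΩ g hg ξ hξ
    have htn : ∀ x ∈ H, t' * x * t'⁻¹ ∈ H := h3.nt
    have hstab1 : ∃ k ∈ H, t' • ξ = k • ξ := ⟨1, H.one_mem, by rw [ht'ξ, one_smul]⟩
    rcases h5 _ hνΩ with h6 | h6 | h6 | h6
    · exact (hno h1 h2 h3 h4 (stable_of_fixed hg hsn h6) hstab1).elim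
    · exact h6
    · obtain ⟨k, hk, hke⟩ := stable_of_fixed hg (a := s * t') (by
        intro x hx
        have : s * t' * x * (s * t')⁻¹ = s * (t' * x * t'⁻¹) * s⁻¹ := by group
        rw [this]
        exact hsn _ (htn _ hx)) h6
      rw [mul_smul, ht'ξ] at hke
      exact (hno h1 h2 h3 h4 ⟨k, hk, hke⟩ hstab1).elim
    · obtain ⟨k, hk, hke⟩ := stable_of_fixed hg (a := s * (s * t')) (by
        intro x hx
        have : s * (s * t') * x * (s * (s * t'))⁻¹ = s * (s * (t' * x * t'⁻¹) * s⁻¹) * s⁻¹ := by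
          group
        rw [this]
        exact hsn _ (hsn _ (htn _ hx))) h6
      rw [mul_smul, mul_smul, ht'ξ] at hke
      -- `s² ξ = k ξ`, hence `s ξ` lies in the orbit
      have h7 : s • ξ = (s * (s * k * s⁻¹) * s⁻¹ * k) • ξ := by
        have h8 : s • ξ = s • s • s • s • ξ := by
          have h9 : s * s * s * s = s * (s * (s * s)) := by group
          rw [smul_smul, smul_smul, smul_smul, h9, hs4]
        rw [h8, hke, smul_conj_aux s k, smul_conj_aux s (s * k * s⁻¹), hke, smul_smul]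
      exact (hno h1 h2 h3 h4 ⟨_, H.mul_mem (hsn _ (hsn _ hk)) hk, h7⟩ hstab1).elim
  have hval : Valid t := ⟨ht2, hrel, h, hX, hF⟩
  have hsinv : ∀ {ν : X}, s • ν = ν → s⁻¹ • ν = ν := by
    intro ν hν
    conv_lhs => rw [← hν]
    rw [inv_smul_smul]
  rcases hF ξ hξ with h1 | h1 | h1 | h1
  · apply fixes_of_s hs3 ht2 hrel h hX
    intro g hg
    have hνΩ := hΩ g hg ξ hξ
    have hstab1 : ∃ k ∈ H, s • ξ = k • ξ := ⟨1, H.one_mem, by rw [h1, one_smul]⟩
    rcases hF _ hνΩ with h6 | h6 | h6 | h6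
    · exact h6
    · exact (hno ht2 hrel h hX hstab1 (stable_of_fixed hg h.nt h6)).elim
    · obtain ⟨k, hk, hke⟩ := stable_of_fixed hg (a := s * t) (by
        intro x hx
        have : s * t * x * (s * t)⁻¹ = s * (t * x * t⁻¹) * s⁻¹ := by group
        rw [this]
        exact hsn _ (h.nt _ hx)) h6
      have h7 : t • ξ = (s⁻¹ * k * s) • ξ := by
        have h8 : t • ξ = s⁻¹ • (s * t) • ξ := by
          rw [mul_smul, inv_smul_smul]
        rw [h8, hke, smul_conj_aux s⁻¹ k ξ, hsinv h1]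
        simp
      exact (hno ht2 hrel h hX hstab1 ⟨_, hsinvn _ hk, h7⟩).elim
    · obtain ⟨k, hk, hke⟩ := stable_of_fixed hg (a := s * (s * t)) (by
        intro x hx
        have : s * (s * t) * x * (s * (s * t))⁻¹ = s * (s * (t * x * t⁻¹) * s⁻¹) * s⁻¹ := by
          group
        rw [this]
        exact hsn _ (hsn _ (h.nt _ hx))) h6
      have h7 : t • ξ = (s⁻¹ * (s⁻¹ * k * s) * s) • ξ := by
        have h8 : t • ξ = s⁻¹ • s⁻¹ • (s * (s * t)) • ξ := by
          rw [mul_smul, mul_smul, inv_smul_smul, inv_smul_smul]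
        rw [h8, hke, smul_conj_aux s⁻¹ k ξ, hsinv h1, smul_conj_aux s⁻¹ (s⁻¹ * k * s⁻¹⁻¹) ξ, hsinv h1]
        simp
      exact (hno ht2 hrel h hX hstab1 ⟨_, hsinvn _ (hsinvn _ hk), h7⟩).elim
  · exact hcaseT hval h1
  · exact hcaseT (hstep hval) h1
  · exact hcaseT (hstep (hstep hval)) h1

end Cfsg.Agent.Lib.S3Fpf
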