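import Mathlib
import Cfsg.Prelude.Def_Solvable
import Cfsg.Agent.Lib.S3Fpf.Orbit
import Cfsg.Agent.Lib.S3Fpf.Ops
import Cfsg.Agent.Lib.S3Fpf.Chars
import Cfsg.Agent.Lib.Nilpotent.Fitting
import Cfsg.Agent.Lib.Components.Fitting
import Cfsg.Agent.Lib.Basic.PCore

/-!
# The core theorem: `H` is abelian on an irreducible module without `S₃`-fixed points
-/

set_option autoImplicit false
set_option linter.style.haveILetI false

namespace Cfsg.Agent.Lib.S3Fpf

open Cfsg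
open scoped commutatorElement

variable {K V Γ : Type*} [Field K] [AddCommGroup V] [Module K V] [Group Γ]

attribute [local instance] charAct

section Basics

variable {Q : Subgroup Γ} [Q.Normal]

theorem smul_char_mul (g : Γ) (μ ν : Q →* Kˣ) : g • (μ * ν) = (g • μ) * (g • ν) := rfl

theorem smul_char_inv (g : Γ) (μ : Q →* Kˣ) : g • μ⁻¹ = (g • μ)⁻¹ := rfl

omit [Q.Normal] in
theorem char_inv_inv (μ : Q →* Kˣ) : μ⁻¹⁻¹ = μ := by
  ext x
  simp

omit [Q.Normal] in
theorem char_eq_inv_of_mul {μ ν : Q →* Kˣ} (h : μ * ν = 1) : ν = μ⁻¹ := by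
  ext x
  have h1 := DFunLike.congr_fun h x
  simp only [MonoidHom.mul_apply, MonoidHom.one_apply] at h1
  simp [eq_inv_of_mul_eq_one_right h1]

omit [Q.Normal] in
theorem char_mul_comm (μ ν : Q →* Kˣ) : μ * ν = ν * μ := by
  ext x
  simp [mul_comm]

theorem value_of_fixed {g : Γ} {ν : Q →* Kˣ} (h : g • ν = ν) (x : Q) :
    ν (MulAut.conjNormal g x) = ν x := by
  have h1 : g⁻¹ • ν = ν := by
    conv_lhs => rw [← h]
    rw [inv_smul_smul]
  have h2 := congrArg (fun f : Q →* Kˣ => f x) h1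
  simp only [charAct_apply, inv_inv] at h2
  exact h2

/-- A character of `Q` fixed by `s` and `t` is trivial. -/
theorem char_trivial {s t : Γ} (hQ : Hyp (MulAut.conj s) (MulAut.conj t) Q) (ν : Q →* Kˣ)
    (h1 : s • ν = ν) (h2 : t • ν = ν) : ν = 1 := by
  have hSQ : (ν.ker).map Q.subtype ≤ Q := Subgroup.map_subtype_le _
  have hle : Q ≤ (ν.ker).map Q.subtype := by
    apply hQ.le_of_comm_mem hSQ
    · intro x hx
      refine ⟨⟨x, hx⟩⁻¹ * MulAut.conjNormal s ⟨x, hx⟩, MonoidHom.mem_ker.mpr ?_, ?_⟩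
      · rw [map_mul, map_inv, value_of_fixed h1, inv_mul_cancel]
      · simp [MulAut.conjNormal_apply]
    · intro x hx
      refine ⟨⟨x, hx⟩⁻¹ * MulAut.conjNormal t ⟨x, hx⟩, MonoidHom.mem_ker.mpr ?_, ?_⟩
      · rw [map_mul, map_inv, value_of_fixed h2, inv_mul_cancel]
      · simp [MulAut.conjNormal_apply]
  ext x
  obtain ⟨y, hy, hyx⟩ := hle x.2
  have h3 : y = x := Subtype.ext hyx
  rw [← h3]
  simp [MonoidHom.mem_ker.mp hy]

omit [Q.Normal] in
theorem eig_inf_eq_zero {ρ : Γ →* Module.End K V} {μ ν : Q →* Kˣ} (hne : μ ≠ ν) {u : V}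
    (h1 : u ∈ eig ρ Q μ) (h2 : u ∈ eig ρ Q ν) : u = 0 := by
  by_contra hu
  apply hne
  ext x
  have h3 := h1 x
  rw [h2 x] at h3
  exact (smul_left_injective K hu h3).symm

end Basics

/-- An abelian normal subgroup inside a nontrivial normal `q`-subgroup. -/
theorem exists_abelian_normal [Finite Γ] {q : ℕ} [Fact q.Prime] {P : Subgroup Γ} [hPn : P.Normal]
    (hP : IsPGroup q P) (hne : P ≠ ⊥) :
    ∃ Q : Subgroup Γ, Q.Normal ∧ Q ≤ P ∧ Q ≠ ⊥ ∧ ∀ a ∈ Q, ∀ b ∈ Q, a * b = b * a := by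
  refine ⟨P ⊓ Subgroup.centralizer (P : Set Γ), ?_, inf_le_left, ?_, ?_⟩
  · haveI : (Subgroup.centralizer (P : Set Γ)).Normal := Subgroup.normal_centralizer
    exact Subgroup.normal_inf_normal _ _
  · haveI : Nontrivial P := (Subgroup.nontrivial_iff_ne_bot P).mpr hne
    have h1 := hP.center_nontrivial
    obtain ⟨z, hz⟩ := exists_ne (1 : Subgroup.center P)
    intro h
    have hz1 : (z.1 : Γ) ∈ P ⊓ Subgroup.centralizer (P : Set Γ) := by
      refine ⟨z.1.2, Subgroup.mem_centralizer_iff.mpr ?_⟩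
      intro y hy
      have := Subgroup.mem_center_iff.mp z.2 ⟨y, hy⟩
      exact congrArg Subtype.val this
    rw [h, Subgroup.mem_bot] at hz1
    apply hz
    exact Subtype.ext (Subtype.ext hz1)
  · rintro a ⟨ha, -⟩ b ⟨-, hb⟩
    exact ((Subgroup.mem_centralizer_iff.mp hb) a ha)

section Irr

variable (ρ : Γ →* Module.End K V)

/-- Irreducibility consequence: a normal subgroup with a nonzero fixed vector is trivial. -/
theorem normal_trivial_of_fixed (hinj : Function.Injective ρ) {H : Subgroup Γ} {s t : Γ}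
    (hirr : ∀ W : Submodule K V, (∀ h ∈ H, ∀ w ∈ W, ρ h w ∈ W) → (∀ w ∈ W, ρ s w ∈ W) →
      (∀ w ∈ W, ρ t w ∈ W) → W = ⊥ ∨ W = ⊤) {N : Subgroup Γ} [hN : N.Normal] {v : V} (hv0 : v ≠ 0)
    (hv : ∀ x ∈ N, ρ x v = v) : N = ⊥ := by
  let W : Submodule K V :=
    { carrier := {w | ∀ x ∈ N, ρ x w = w}
      add_mem' := fun {a b} ha hb x hx => by rw [map_add, ha x hx, hb x hx]
      zero_mem' := fun x _ => map_zero _
      smul_mem' := fun c w hw x hx => by rw [map_smul, hw x hx] }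
  have hinvg : ∀ g : Γ, ∀ w ∈ W, ρ g w ∈ W := by
    intro g w hw x hx
    have h1 : ρ x (ρ g w) = ρ (x * g) w := by rw [map_mul]; rfl
    have h2 : x * g = g * (g⁻¹ * x * g⁻¹⁻¹) := by group
    have h3 : g⁻¹ * x * g⁻¹⁻¹ ∈ N := hN.conj_mem x hx g⁻¹
    rw [h1, h2, map_mul, Module.End.mul_apply, hw _ h3]
  rcases hirr W (fun h _ => hinvg h) (hinvg s) (hinvg t) with h | h
  · exfalso
    have : v ∈ W := hv
    rw [h, Submodule.mem_bot] at this
    exact hv0 this
  · rw [Subgroup.eq_bot_iff_forall]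
    intro x hx
    apply hinj
    rw [map_one]
    refine LinearMap.ext fun w => ?_
    have : w ∈ W := by rw [h]; trivial
    exact this x hx

/-- Normal `p`-subgroups act trivially. -/
theorem pgroup_trivial {p : ℕ} [hp : Fact p.Prime] [CharP K p] [IsAlgClosed K]
    [FiniteDimensional K V] [Nontrivial V] [Finite Γ]
    (hA : ∀ N : Subgroup Γ, N.Normal → ∀ v : V, v ≠ 0 → (∀ x ∈ N, ρ x v = v) → N = ⊥)
    {P : Subgroup Γ} [P.Normal] (hP : IsPGroup p P) : P = ⊥ := by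
  by_contra hne
  obtain ⟨Q, hQn, hQP, hQne, hQc⟩ := exists_abelian_normal hP hne
  obtain ⟨μ, v, hv0, hv⟩ := exists_eig ρ Q hQc
  apply hQne
  apply hA Q hQn v hv0
  intro x hx
  have h1 := hv ⟨x, hx⟩
  obtain ⟨k, hk⟩ := hP ⟨x, hQP hx⟩
  have h2 : (⟨x, hx⟩ : Q) ^ (p ^ k) = 1 := by
    have hk' : x ^ (p ^ k) = 1 := by simpa using congrArg Subtype.val hk
    exact Subtype.ext hk'
  have h3 : ((μ ⟨x, hx⟩ : Kˣ) : K) ^ (p ^ k) = 1 := by
    rw [← Units.val_pow_eq_pow_val, ← map_pow, h2, map_one, Units.val_one]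
  have h4 : (((μ ⟨x, hx⟩ : Kˣ) : K) - 1) ^ (p ^ k) = 0 := by
    rw [sub_pow_char_pow, h3, one_pow, sub_self]
  have h5 : ((μ ⟨x, hx⟩ : Kˣ) : K) = 1 := by
    have := (pow_eq_zero_iff (pow_ne_zero k hp.out.ne_zero)).mp h4
    exact sub_eq_zero.mp this
  show ρ x v = v
  have h6 : ρ x v = ((μ ⟨x, hx⟩ : Kˣ) : K) • v := h1
  rw [h6, h5, one_smul]

/-- The case of a character fixed by an involution. -/
theorem case_tau {H Q : Subgroup Γ} [H.Normal] [Q.Normal] {s t : Γ} (hs3 : s ^ 3 = 1)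
    (ht2 : t ^ 2 = 1) (hrel : t * s * t⁻¹ = s⁻¹) (h : Hyp (MulAut.conj s) (MulAut.conj t) H)
    (hQ : Hyp (MulAut.conj s) (MulAut.conj t) Q) (hcard : (Nat.card Q : K) ≠ 0)
    (hfix : ∀ w, ρ s w = w → ρ t w = w → w = 0)
    (hA : ∀ N : Subgroup Γ, N.Normal → ∀ v : V, v ≠ 0 → (∀ x ∈ N, ρ x v = v) → N = ⊥)
    {μ : Q →* Kˣ} (hμ : μ ≠ 1) (hH : ∀ g ∈ H, g • μ = μ) (htμ : t • μ = μ) {v : V}
    (hv : v ∈ eig ρ Q μ) (hv0 : v ≠ 0) : ∀ a ∈ H, ∀ b ∈ H, a * b = b * a := by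
  classical
  haveI : Finite Q := hQ.fin
  haveI : Fintype Q := Fintype.ofFinite Q
  have hcard' : (Fintype.card Q : K) ≠ 0 := by rwa [← Nat.card_eq_fintype_card]
  have hsμ : s • μ ≠ μ := fun h1 => hμ (char_trivial hQ μ h1 htμ)
  have hss : s * s = s⁻¹ := by
    rw [eq_inv_iff_mul_eq_one, ← pow_three', hs3]
  have hts : t * s = s * s * t := by
    rw [hss, ← hrel]; group
  have hs4 : s * s * s * s = s := by
    rw [← pow_three', hs3, one_mul]
  have hssμ : (s * s) • μ ≠ μ := by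
    intro h1
    apply hsμ
    have : s • μ = (s * s * s * s) • μ := by rw [hs4]
    rw [this, mul_assoc (s * s) s s, mul_smul, h1, h1]
  have hact : ∀ (a b : Γ) (w : V), ρ a (ρ b w) = ρ (a * b) w := by
    intro a b w
    rw [map_mul]; rfl
  have hs3v : ∀ w : V, ρ s (ρ s (ρ s w)) = w := by
    intro w
    rw [hact, hact, ← pow_three', hs3, map_one]; rfl
  have htt : ∀ w : V, ρ t (ρ t w) = w := by
    intro w
    rw [hact, ← pow_two, ht2, map_one]; rfl
  have hts1 : ∀ w : V, ρ t (ρ s w) = ρ s (ρ s (ρ t w)) := by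
    intro w
    rw [hact, hts, hact, hact, mul_assoc]
  have hts2 : ∀ w : V, ρ t (ρ s (ρ s w)) = ρ s (ρ t w) := by
    intro w
    rw [hts1, hts1, hs3v]
  -- no fixed points of `t` on the eigenspace
  have hC0 : ∀ w ∈ eig ρ Q μ, ρ t w = w → w = 0 := by
    intro w hw htw
    set x := w + ρ s w + ρ s (ρ s w) with hx
    have h1 : ρ s x = x := by
      rw [hx]
      simp only [map_add]
      rw [hs3v]
      abel
    have h2 : ρ t x = x := by
      rw [hx]
      simp only [map_add]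
      rw [htw, hts1, hts2, htw]
      abel
    have h3 := hfix x h1 h2
    have hp := congrArg (proj ρ μ) h3
    rw [hx, proj_zero] at hp
    simp only [proj_add] at hp
    have e2 : ρ s (ρ s w) ∈ eig ρ Q ((s * s) • μ) := by
      rw [mul_smul]
      exact map_eig ρ (map_eig ρ hw s) s
    rw [proj_self ρ hw, proj_other ρ hsμ (map_eig ρ hw s), proj_other ρ hssμ e2] at hp
    simp only [add_zero] at hp
    exact (smul_eq_zero.mp hp).resolve_left hcard'
  have hteig : ∀ w ∈ eig ρ Q μ, ρ t w ∈ eig ρ Q μ := by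
    intro w hw
    have := map_eig ρ hw t
    rwa [htμ] at this
  have hneg : ∀ w ∈ eig ρ Q μ, ρ t w = -w := by
    intro w hw
    have h1 : w + ρ t w ∈ eig ρ Q μ := Submodule.add_mem _ hw (hteig w hw)
    have h2 : ρ t (w + ρ t w) = w + ρ t w := by
      rw [map_add, htt, add_comm]
    have h3 := hC0 _ h1 h2
    exact (eq_neg_of_add_eq_zero_left (by rw [add_comm]; exact h3))
  have hHeig : ∀ g ∈ H, ∀ w ∈ eig ρ Q μ, ρ g w ∈ eig ρ Q μ := by
    intro g hg w hw
    have := map_eig ρ hw g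
    rwa [hH g hg] at this
  have hi1 : ∀ (g : Γ) (w : V), ρ g⁻¹ (ρ g w) = w := by
    intro g w
    rw [hact, inv_mul_cancel, map_one]; rfl
  have hi2 : ∀ (g : Γ) (w : V), ρ g (ρ g⁻¹ w) = w := by
    intro g w
    rw [hact, mul_inv_cancel, map_one]; rfl
  -- the kernel on the eigenspace
  let K1 : Subgroup Γ :=
    { carrier := {x | x ∈ H ∧ ∀ w ∈ eig ρ Q μ, ρ x w = w}
      one_mem' := ⟨H.one_mem, fun w _ => by rw [map_one]; rfl⟩
      mul_mem' := fun {a b} ha hb => ⟨H.mul_mem ha.1 hb.1, fun w hw => by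
        rw [map_mul, Module.End.mul_apply, hb.2 w hw, ha.2 w hw]⟩
      inv_mem' := fun {a} ha => ⟨H.inv_mem ha.1, fun w hw => by
        conv_lhs => rw [← ha.2 w hw]
        exact hi1 a w⟩ }
  have hK1H : K1 ≤ H := fun x hx => hx.1
  have hK1n : ∀ g ∈ H, ∀ k ∈ K1, g * k * g⁻¹ ∈ K1 := by
    intro g hg k hk
    refine ⟨H.mul_mem (H.mul_mem hg hk.1) (H.inv_mem hg), fun w hw => ?_⟩
    rw [← hact, ← hact, hk.2 _ (hHeig _ (H.inv_mem hg) w hw), hi2]
  have htinv : t⁻¹ = t := by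
    rw [inv_eq_iff_mul_eq_one, ← pow_two, ht2]
  have hK1t : ∀ x ∈ H, x⁻¹ * MulAut.conj t x ∈ K1 := by
    intro x hx
    refine ⟨H.mul_mem (H.inv_mem hx) (h.nt x hx), fun w hw => ?_⟩
    rw [MulAut.conj_apply, ← hact, ← hact, ← hact, htinv, hneg w hw, map_neg, map_neg,
      hneg _ (hHeig x hx w hw), neg_neg, hi1]
  have hcomm := fun a ha b hb => h.commutator_mem hK1H hK1n hK1t (a := a) (b := b) ha hb
  have hD : ⁅H, H⁆ ≤ K1 := by
    rw [Subgroup.commutator_le]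
    intro a ha b hb
    exact hcomm a ha b hb
  have hDbot : ⁅H, H⁆ = ⊥ :=
    hA _ inferInstance v hv0 (fun x hx => (hD hx).2 v hv)
  intro a ha b hb
  have h1 : ⁅a, b⁆ ∈ ⁅H, H⁆ := Subgroup.commutator_mem_commutator ha hb
  rw [hDbot, Subgroup.mem_bot, commutatorElement_eq_one_iff_mul_comm] at h1
  exact h1

/-- If `s` has no fixed points on the module, and the Fitting subgroup of `H` acts semisimply,
then `s` centralizes `H`, and `H` is abelian. -/
theorem abelian_of_fpf [Finite Γ] (hinj : Function.Injective ρ) {H : Subgroup Γ} [hHn : H.Normal]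
    [hHs : Group.IsSolvable H] {s t : Γ} (hs3 : s ^ 3 = 1)
    (h : Hyp (MulAut.conj s) (MulAut.conj t) H) (hfixs : ∀ v, ρ s v = v → v = 0)
    (hcardF : (Nat.card ((fittingSubgroup H).map H.subtype) : K) ≠ 0) :
    ∀ a ∈ H, ∀ b ∈ H, a * b = b * a := by
  set F₀ := fittingSubgroup H with hF₀
  set F := F₀.map H.subtype with hF
  have hFH : F ≤ H := Subgroup.map_subtype_le _
  haveI hFn : F.Normal := Cfsg.Agent.Lib.Nilpotent.Fitting.map_subtype_normal_of_characteristic F₀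
  have hF₀nil : Group.IsNilpotent F₀ := Cfsg.Agent.Lib.Nilpotent.Fitting.isNilpotent_fittingSubgroup
  have hFsol : Group.IsSolvable F := by
    have e : F₀ ≃* F := F₀.equivMapOfInjective H.subtype H.subtype_injective
    exact Group.isSolvable_of_isSolvable_injective (f := e.symm.toMonoidHom) e.symm.injective
  have hFcop : (Nat.card F).Coprime 6 :=
    Nat.Coprime.coprime_dvd_left (Subgroup.card_dvd_of_le hFH) h.cop
  have hFfix := centralize_solvable ρ hinj hs3 hfixs _ F rfl inferInstance hFsol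
    (fun x hx => hFn.conj_mem x hx s) hFcop hcardF
  -- the centralizer of the Fitting subgroup
  have hCF : Subgroup.centralizer (F₀ : Set H) ≤ F₀ := by
    apply Cfsg.Agent.Lib.Components.Fitting.le_fitting_of_solvable_of_le_centralizer _ le_rfl
      Subgroup.le_normalizer
    exact Group.isSolvable_of_isSolvable_injective (Subgroup.subtype_injective _)
  have hcent : ∀ x ∈ H, (∀ f ∈ F, x * f = f * x) → x ∈ F := by
    intro x hx hxf
    have h1 : (⟨x, hx⟩ : H) ∈ Subgroup.centralizer (F₀ : Set H) := by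
      rw [Subgroup.mem_centralizer_iff]
      intro y hy
      apply Subtype.ext
      exact (hxf y.1 ⟨y, hy, rfl⟩).symm
    exact ⟨_, hCF h1, rfl⟩
  set σ : MulAut Γ := MulAut.conj s with hσ
  have hσa : ∀ x, σ x = s * x * s⁻¹ := fun x => rfl
  have hσ3 : ∀ x, σ (σ (σ x)) = x := h.s3
  have hfixH : ∀ x ∈ H, σ x = x := by
    intro x hx
    set c := x⁻¹ * σ x with hc
    have hcH : c ∈ H := H.mul_mem (H.inv_mem hx) (h.ns x hx)
    have hcF : c ∈ F := by
      apply hcent c hcH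
      intro f hf
      have h1 : x * f * x⁻¹ ∈ F := hFn.conj_mem f hf x
      have h2 : σ (x * f * x⁻¹) = x * f * x⁻¹ := hFfix _ h1
      have h3 : σ f = f := hFfix f hf
      simp only [map_mul, map_inv, h3] at h2
      calc c * f = x⁻¹ * (σ x * f * (σ x)⁻¹) * σ x := by rw [hc]; group
        _ = x⁻¹ * (x * f * x⁻¹) * σ x := by rw [h2]
        _ = f * c := by rw [hc]; group
    have hσc : σ c = c := hFfix c hcF
    have h2 : σ x = x * c := by rw [hc]; group
    have h3 : σ (σ x) = x * c * c := by rw [h2, map_mul, hσc, h2]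
    have h4 : σ (σ (σ x)) = x * c * c * c := by rw [h3, map_mul, map_mul, hσc, h2]
    rw [hσ3] at h4
    have h5 : c ^ 3 = 1 := by
      have h6 : x * c ^ 3 = x * 1 := by
        rw [mul_one, pow_three]
        nth_rewrite 2 [h4]
        group
      exact mul_left_cancel h6
    have h6 := h.eq_one_of_cube hcH h5
    rw [h2, h6, mul_one]
  have hinvH : ∀ x ∈ H, MulAut.conj t x = x⁻¹ := fun x hx => h.inv_of_fixed hx (hfixH x hx)
  intro a ha b hb
  have h1 := hinvH _ (H.mul_mem ha hb)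
  rw [map_mul, hinvH a ha, hinvH b hb, mul_inv_rev] at h1
  have h2 : (b * a)⁻¹ = (a * b)⁻¹ := by
    rw [mul_inv_rev, mul_inv_rev]
    exact h1
  exact (inv_injective h2).symm

/-- The case of a character fixed by the element of order three. -/
theorem fpf_of_case_sigma {H Q : Subgroup Γ} [Q.Normal] {s t : Γ} (hs3 : s ^ 3 = 1)
    (ht2 : t ^ 2 = 1) (hrel : t * s * t⁻¹ = s⁻¹) (hQ : Hyp (MulAut.conj s) (MulAut.conj t) Q)
    (hfix : ∀ w, ρ s w = w → ρ t w = w → w = 0)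
    (hirr : ∀ W : Submodule K V, (∀ h ∈ H, ∀ w ∈ W, ρ h w ∈ W) → (∀ w ∈ W, ρ s w ∈ W) →
      (∀ w ∈ W, ρ t w ∈ W) → W = ⊥ ∨ W = ⊤)
    {μ : Q →* Kˣ} (hμ : μ ≠ 1) (hH : ∀ g ∈ H, g • μ = μ) (hsμ : s • μ = μ) {v : V}
    (hv : v ∈ eig ρ Q μ) (hv0 : v ≠ 0) : ∀ w, ρ s w = w → w = 0 := by
  have hst : s * t = t * s⁻¹ := by
    have h1 : t * s⁻¹ * t⁻¹ = s := by
      have := congrArg (·⁻¹) hrel
      simpa [mul_assoc] using this
    calc s * t = (t * s⁻¹ * t⁻¹) * t := by rw [h1]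
      _ = t * s⁻¹ := by group
  have hsinv : s⁻¹ • μ = μ := by
    conv_lhs => rw [← hsμ]
    rw [inv_smul_smul]
  have htt : ∀ ν : Q →* Kˣ, t • t • ν = ν := by
    intro ν
    rw [smul_smul, ← pow_two, ht2, one_smul]
  have hact : ∀ (a b : Γ) (w : V), ρ a (ρ b w) = ρ (a * b) w := by
    intro a b w
    rw [map_mul]; rfl
  have httv : ∀ w : V, ρ t (ρ t w) = w := by
    intro w
    rw [hact, ← pow_two, ht2, map_one]; rfl
  have hsinvv : ∀ {w : V}, ρ s w = w → ρ s⁻¹ w = w := by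
    intro w hw
    have h1 : ρ s⁻¹ (ρ s w) = w := by
      rw [hact, inv_mul_cancel, map_one]; rfl
    rwa [hw] at h1
  -- `t` inverts `μ`
  have htμ : t • μ = μ⁻¹ := by
    have h1 : μ * t • μ = 1 := by
      apply char_trivial hQ
      · rw [smul_char_mul, hsμ, smul_smul, hst, mul_smul, hsinv]
      · rw [smul_char_mul, htt, char_mul_comm]
    exact char_eq_inv_of_mul h1
  have hne : μ ≠ μ⁻¹ := by
    intro h1
    apply hμ
    have h2 : ∀ x : Q, μ x * μ x = 1 := by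
      intro x
      have h3 := congrArg (fun f : Q →* Kˣ => f x) h1
      simp only [MonoidHom.inv_apply] at h3
      exact mul_eq_one_iff_eq_inv.mpr h3
    have h3 : ∀ x : Q, μ x = 1 := by
      intro x
      have h4 : (x.1 : Γ) ∈ (μ.ker).map Q.subtype := by
        apply hQ.mem_of_sq_mem _ x.2
        refine ⟨x * x, MonoidHom.mem_ker.mpr ?_, rfl⟩
        rw [map_mul, h2]
      obtain ⟨y, hy, hyx⟩ := h4
      have h5 : y = x := Subtype.ext hyx
      rw [← h5]
      exact MonoidHom.mem_ker.mp hy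
    ext x
    simp [h3 x]
  have htμ' : t • μ⁻¹ = μ := by
    rw [smul_char_inv, htμ, char_inv_inv]
  have hsμ' : s • μ⁻¹ = μ⁻¹ := by rw [smul_char_inv, hsμ]
  have hHμ' : ∀ g ∈ H, g • μ⁻¹ = μ⁻¹ := by
    intro g hg
    rw [smul_char_inv, hH g hg]
  -- the sum of two eigenspaces
  have hinv2 : ∀ g : Γ, g • μ = μ → ∀ w ∈ eig ρ Q μ ⊔ eig ρ Q μ⁻¹, ρ g w ∈ eig ρ Q μ ⊔ eig ρ Q μ⁻¹ := by
    intro g hg w hw
    obtain ⟨w1, hw1, w2, hw2, rfl⟩ := Submodule.mem_sup.mp hw
    rw [map_add]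
    have h1 := map_eig ρ hw1 g
    have h2 := map_eig ρ hw2 g
    rw [hg] at h1
    rw [smul_char_inv, hg] at h2
    exact Submodule.add_mem_sup h1 h2
  have hW : eig ρ Q μ ⊔ eig ρ Q μ⁻¹ = ⊤ := by
    refine (hirr _ (fun g hg => hinv2 g (hH g hg)) (hinv2 s hsμ) ?_).resolve_left ?_
    · intro w hw
      obtain ⟨w1, hw1, w2, hw2, rfl⟩ := Submodule.mem_sup.mp hw
      rw [map_add]
      have h1 := map_eig ρ hw1 t
      have h2 := map_eig ρ hw2 t
      rw [htμ] at h1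
      rw [htμ'] at h2
      rw [add_comm]
      exact Submodule.add_mem_sup h2 h1
    · intro h
      have h1 : v ∈ eig ρ Q μ ⊔ eig ρ Q μ⁻¹ := Submodule.mem_sup_left hv
      rw [h, Submodule.mem_bot] at h1
      exact hv0 h1
  -- a fixed vector in an eigenspace vanishes
  have hzero : ∀ ν : Q →* Kˣ, s • ν = ν → t • ν = ν⁻¹ → ν ≠ ν⁻¹ → ∀ u ∈ eig ρ Q ν, ρ s u = u → u = 0 := by
    intro ν _ htν hνne u hu hsu
    have h1 : u + ρ t u = 0 := by
      apply hfix
      · rw [map_add, hsu, hact, hst, ← hact, hsinvv hsu]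
      · rw [map_add, httv, add_comm]
    have h2 : ρ t u = -u := eq_neg_of_add_eq_zero_right h1
    have h3 := map_eig ρ hu t
    rw [htν, h2] at h3
    have h4 : u ∈ eig ρ Q ν⁻¹ := by
      have := Submodule.neg_mem _ h3
      rwa [neg_neg] at this
    exact eig_inf_eq_zero hνne hu h4
  intro w hsw
  have hw : w ∈ eig ρ Q μ ⊔ eig ρ Q μ⁻¹ := by rw [hW]; trivial
  obtain ⟨w1, hw1, w2, hw2, rfl⟩ := Submodule.mem_sup.mp hw
  have h1 : ρ s w1 ∈ eig ρ Q μ := by
    have := map_eig ρ hw1 s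
    rwa [hsμ] at this
  have h2 : ρ s w2 ∈ eig ρ Q μ⁻¹ := by
    have := map_eig ρ hw2 s
    rwa [hsμ'] at this
  rw [map_add] at hsw
  have h3 : ρ s w1 - w1 = w2 - ρ s w2 := by
    rw [sub_eq_sub_iff_add_eq_add, hsw, add_comm]
  have h4 : ρ s w1 - w1 = 0 := by
    apply eig_inf_eq_zero hne (Submodule.sub_mem _ h1 hw1)
    rw [h3]
    exact Submodule.sub_mem _ hw2 h2
  have h5 : ρ s w1 = w1 := sub_eq_zero.mp h4
  have h6 : ρ s w2 = w2 := by
    rw [h5] at hsw
    exact add_left_cancel hsw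
  have hne' : μ⁻¹ ≠ μ⁻¹⁻¹ := by
    rw [char_inv_inv]
    exact hne.symm
  have h7 := hzero μ hsμ htμ hne w1 hw1 h5
  have h8 := hzero μ⁻¹ hsμ' (by rw [htμ', char_inv_inv]) hne' w2 hw2 h6
  rw [h7, h8, add_zero]

/-- **Core theorem.** -/
theorem core_abelian {p : ℕ} [hp : Fact p.Prime] [CharP K p] [IsAlgClosed K]
    [FiniteDimensional K V] [Nontrivial V] [Finite Γ] (hinj : Function.Injective ρ)
    {H : Subgroup Γ} [hHn : H.Normal] [hHs : Group.IsSolvable H] {s t : Γ} (hs3 : s ^ 3 = 1)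
    (ht2 : t ^ 2 = 1) (hrel : t * s * t⁻¹ = s⁻¹) (h : Hyp (MulAut.conj s) (MulAut.conj t) H)
    (hfix : ∀ w, ρ s w = w → ρ t w = w → w = 0)
    (hirr : ∀ W : Submodule K V, (∀ h ∈ H, ∀ w ∈ W, ρ h w ∈ W) → (∀ w ∈ W, ρ s w ∈ W) →
      (∀ w ∈ W, ρ t w ∈ W) → W = ⊥ ∨ W = ⊤) : ∀ a ∈ H, ∀ b ∈ H, a * b = b * a := by
  classical
  by_cases hHbot : H = ⊥
  · intro a ha b hb
    rw [hHbot, Subgroup.mem_bot] at ha hb
    rw [ha, hb]
  have hA : ∀ N : Subgroup Γ, N.Normal → ∀ v : V, v ≠ 0 → (∀ x ∈ N, ρ x v = v) → N = ⊥ :=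
    fun N hN v hv0 hv => normal_trivial_of_fixed ρ hinj hirr hv0 hv
  -- the `p`-core is trivial
  have hPbot : pCore p H = ⊥ := by
    haveI := Cfsg.Agent.Lib.Basic.PCore.pCore_char p H
    haveI hPn := Cfsg.Agent.Lib.Nilpotent.Fitting.map_subtype_normal_of_characteristic
      (N := H) (pCore p H)
    have h1 : IsPGroup p ((pCore p H).map H.subtype) := by
      have h2 := Cfsg.Agent.Lib.Nilpotent.Fitting.isPGroup_pCore (G := H) p
      exact IsPGroup.of_equiv h2 ((pCore p H).equivMapOfInjective H.subtype H.subtype_injective)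
    have h3 := pgroup_trivial ρ hA h1
    exact (Subgroup.map_eq_bot_iff_of_injective _ H.subtype_injective).mp h3
  set F₀ := fittingSubgroup H with hF₀
  have hF₀nil : Group.IsNilpotent F₀ := Cfsg.Agent.Lib.Nilpotent.Fitting.isNilpotent_fittingSubgroup
  -- elements of prime order in the Fitting subgroup lie in the core
  have hcore : ∀ {q : ℕ} [Fact q.Prime], q ∣ Nat.card F₀ → pCore q H ≠ ⊥ := by
    intro q hq hd hbot
    obtain ⟨y, hy⟩ := exists_prime_orderOf_dvd_card' q hd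
    have hy1 : orderOf (y : H) = q ^ 1 := by
      rw [pow_one, ← hy]
      exact Subgroup.orderOf_coe y
    have h2 := Cfsg.Agent.Lib.Nilpotent.Fitting.mem_pCore_of_mem_nilpotent_normal hF₀nil y.2 hy1
    rw [hbot, Subgroup.mem_bot] at h2
    rw [h2, orderOf_one, pow_one] at hy1
    exact hq.out.one_lt.ne hy1
  have hcardF : (Nat.card (F₀.map H.subtype) : K) ≠ 0 := by
    rw [Ne, CharP.cast_eq_zero_iff K p,
      Subgroup.card_map_of_injective H.subtype_injective]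
    intro hd
    exact hcore hd hPbot
  -- the Fitting subgroup is nontrivial
  have hF₀ne : F₀ ≠ ⊥ := by
    intro hbot
    have hCF : Subgroup.centralizer (F₀ : Set H) ≤ F₀ := by
      apply Cfsg.Agent.Lib.Components.Fitting.le_fitting_of_solvable_of_le_centralizer _ le_rfl
        Subgroup.le_normalizer
      exact Group.isSolvable_of_isSolvable_injective (Subgroup.subtype_injective _)
    apply hHbot
    rw [Subgroup.eq_bot_iff_forall]
    intro x hx
    have h1 : (⟨x, hx⟩ : H) ∈ F₀ := by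
      apply hCF
      rw [Subgroup.mem_centralizer_iff]
      intro y hy
      rw [hbot] at hy
      have hy' : y = 1 := hy
      rw [hy']; simp
    rw [hbot, Subgroup.mem_bot] at h1
    exact congrArg Subtype.val h1
  -- choose a prime
  have hcard1 : Nat.card F₀ ≠ 1 := by
    intro h1
    exact hF₀ne (Subgroup.eq_bot_of_card_eq _ h1)
  obtain ⟨q, hq, hqd⟩ := Nat.exists_prime_and_dvd hcard1
  haveI : Fact q.Prime := ⟨hq⟩
  have hqne := hcore hqd
  have hqp : q ≠ p := by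
    rintro rfl
    exact hqne hPbot
  haveI := Cfsg.Agent.Lib.Basic.PCore.pCore_char q H
  haveI hPqn := Cfsg.Agent.Lib.Nilpotent.Fitting.map_subtype_normal_of_characteristic
      (N := H) (pCore q H)
  have hPqp : IsPGroup q ((pCore q H).map H.subtype) := by
    have h2 := Cfsg.Agent.Lib.Nilpotent.Fitting.isPGroup_pCore (G := H) q
    exact IsPGroup.of_equiv h2 ((pCore q H).equivMapOfInjective H.subtype H.subtype_injective)
  have hPqne : (pCore q H).map H.subtype ≠ ⊥ := by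
    intro hbot
    exact hqne ((Subgroup.map_eq_bot_iff_of_injective _ H.subtype_injective).mp hbot)
  obtain ⟨Q, hQn, hQP, hQne, hQc⟩ := exists_abelian_normal hPqp hPqne
  haveI := hQn
  have hQH : Q ≤ H := hQP.trans (Subgroup.map_subtype_le _)
  have hQhyp : Hyp (MulAut.conj s) (MulAut.conj t) Q :=
    h.mono hQH (fun x hx => hQn.conj_mem x hx s) (fun x hx => hQn.conj_mem x hx t)
  -- order of `Q` is invertible
  have hcardQ : (Nat.card Q : K) ≠ 0 := by
    rw [Ne, CharP.cast_eq_zero_iff K p]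
    intro hd
    have h1 : Nat.card Q ∣ Nat.card ((pCore q H).map H.subtype) := Subgroup.card_dvd_of_le hQP
    obtain ⟨k, hk⟩ := IsPGroup.iff_card.mp hPqp
    rw [hk] at h1
    have h2 := (hp.out.dvd_of_dvd_pow (hd.trans h1))
    exact hqp ((Nat.prime_dvd_prime_iff_eq hp.out hq).mp h2).symm
  obtain ⟨μ, v, hv0, hv⟩ := exists_eig ρ Q hQc
  have hμ : μ ≠ 1 := by
    rintro rfl
    apply hQne
    apply hA Q hQn v hv0
    intro x hx
    have := hv ⟨x, hx⟩
    simpa using this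
  haveI : Finite Q := hQhyp.fin
  haveI : Fintype Q := Fintype.ofFinite Q
  have hcard' : (Fintype.card Q : K) ≠ 0 := by rwa [← Nat.card_eq_fintype_card]
  -- the main orbit lemma
  let Ω : Set (Q →* Kˣ) := {ν | ∃ w, w ≠ 0 ∧ w ∈ eig ρ Q ν}
  have hi1 : ∀ (g : Γ) (w : V), ρ g⁻¹ (ρ g w) = w := by
    intro g w
    have h1 : ρ (g⁻¹ * g) w = w := by rw [inv_mul_cancel, map_one]; rfl
    simpa [map_mul] using h1
  have hΩ : ∀ g ∈ H, ∀ x ∈ Ω, g • x ∈ Ω := by
    rintro g - x ⟨w, hw0, hw⟩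
    refine ⟨ρ g w, ?_, map_eig ρ hw g⟩
    intro h0
    have := hi1 g w
    rw [h0, map_zero] at this
    exact hw0 this.symm
  have hF : ∀ x ∈ Ω, s • x = x ∨ t • x = x ∨ (s * t) • x = x ∨ (s * (s * t)) • x = x := by
    rintro x ⟨w, hw0, hw⟩
    exact stab_of_eig ρ hs3 ht2 hrel hfix hcard' hw hw0
  have hX : ∀ x : Q →* Kˣ, s • x = x → t • x = x → x = 1 := fun x h1 h2 => char_trivial hQhyp x h1 h2
  have hHfix : ∀ g ∈ H, g • μ = μ := fixes_main hs3 ht2 hrel h hX Ω hΩ hF ⟨v, hv0, hv⟩ hμ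
  -- step to another involution
  have hstep : ∀ {t' : Γ}, t' ^ 2 = 1 → t' * s * t'⁻¹ = s⁻¹ →
      Hyp (MulAut.conj s) (MulAut.conj t') H → Hyp (MulAut.conj s) (MulAut.conj t') Q →
      (∀ w, ρ s w = w → ρ t' w = w → w = 0) →
      (s * t') ^ 2 = 1 ∧ (s * t') * s * (s * t')⁻¹ = s⁻¹ ∧
      Hyp (MulAut.conj s) (MulAut.conj (s * t')) H ∧ Hyp (MulAut.conj s) (MulAut.conj (s * t')) Q ∧
      (∀ w, ρ s w = w → ρ (s * t') w = w → w = 0) := by
    intro t' h1 h2 h3 h4 h5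
    have hrel1 : t' * s = s⁻¹ * t' := by
      rw [← h2]; group
    refine ⟨?_, ?_, ?_, ?_, ?_⟩
    · rw [pow_two]
      calc s * t' * (s * t') = s * (t' * s) * t' := by group
        _ = s * (s⁻¹ * t') * t' := by rw [hrel1]
        _ = t' * t' := by group
        _ = 1 := by rw [← pow_two, h1]
    · calc s * t' * s * (s * t')⁻¹ = s * (t' * s) * t'⁻¹ * s⁻¹ := by group
        _ = s * (s⁻¹ * t') * t'⁻¹ * s⁻¹ := by rw [hrel1]
        _ = s⁻¹ := by group
    · rw [map_mul]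
      exact h3.mulLeft
    · rw [map_mul]
      exact h4.mulLeft
    · intro w hw1 hw2
      apply h5 w hw1
      have h6 : ρ s⁻¹ (ρ (s * t') w) = ρ t' w := by
        rw [map_mul, Module.End.mul_apply, hi1]
      rw [hw2] at h6
      rw [← h6]
      have h7 := hi1 s w
      rwa [hw1] at h7
  rcases hF μ ⟨v, hv0, hv⟩ with h1 | h1 | h1 | h1
  · have hfixs := fpf_of_case_sigma ρ hs3 ht2 hrel hQhyp hfix hirr hμ hHfix h1 hv hv0
    exact abelian_of_fpf ρ hinj hs3 h hfixs hcardF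
  · exact case_tau ρ hs3 ht2 hrel h hQhyp hcardQ hfix hA hμ hHfix h1 hv hv0
  · obtain ⟨e1, e2, e3, e4, e5⟩ := hstep ht2 hrel h hQhyp hfix
    exact case_tau ρ hs3 e1 e2 e3 e4 hcardQ e5 hA hμ hHfix h1 hv hv0
  · obtain ⟨e1, e2, e3, e4, e5⟩ := hstep ht2 hrel h hQhyp hfix
    obtain ⟨f1, f2, f3, f4, f5⟩ := hstep e1 e2 e3 e4 e5
    exact case_tau ρ hs3 f1 f2 f3 f4 hcardQ f5 hA hμ hHfix h1 hv hv0

end Irr

end Cfsg.Agent.Lib.S3Fpf
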