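import Mathlib
import Cfsg.Agent.Lib.S3Fpf.Core

/-!
# From the core theorem to every module
-/

set_option autoImplicit false
set_option linter.style.haveILetI false

namespace Cfsg.Agent.Lib.S3Fpf

open Cfsg
open scoped commutatorElement

section Conj

variable {Γ : Type*} [Group Γ]

theorem hyp_of_conj {s t : Γ} (hs3 : s ^ 3 = 1) (ht2 : t ^ 2 = 1) (hrel : t * s * t⁻¹ = s⁻¹)
    {H : Subgroup Γ} (hfin : Finite H) (hcop : (Nat.card H).Coprime 6)
    (ns : ∀ x ∈ H, s * x * s⁻¹ ∈ H) (nt : ∀ x ∈ H, t * x * t⁻¹ ∈ H)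
    (hfix : ∀ x ∈ H, s * x * s⁻¹ = x → t * x * t⁻¹ = x → x = 1) :
    Hyp (MulAut.conj s) (MulAut.conj t) H where
  s3 x := by
    simp only [MulAut.conj_apply]
    have : s * (s * (s * x * s⁻¹) * s⁻¹) * s⁻¹ = s ^ 3 * x * (s ^ 3)⁻¹ := by
      simp only [pow_succ, pow_zero, one_mul, mul_inv_rev, mul_assoc]
    rw [this, hs3]; simp
  t2 x := by
    simp only [MulAut.conj_apply]
    have : t * (t * x * t⁻¹) * t⁻¹ = t ^ 2 * x * (t ^ 2)⁻¹ := by
      simp only [pow_succ, pow_zero, one_mul, mul_inv_rev, mul_assoc]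
    rw [this, ht2]; simp
  rel x := by
    simp only [MulAut.conj_apply]
    have h1 : t * s = s⁻¹ * t := by
      rw [← hrel]; group
    have h2 : s⁻¹ = s * s := by
      rw [inv_eq_iff_mul_eq_one, ← hs3]; simp only [pow_succ, pow_zero, one_mul, mul_assoc]
    have h3 : t * (s * x * s⁻¹) * t⁻¹ = (t * s) * x * (t * s)⁻¹ := by group
    have h4 : s * (s * (t * x * t⁻¹) * s⁻¹) * s⁻¹ = (s * s * t) * x * (s * s * t)⁻¹ := by group
    rw [h3, h4, h1, h2]
  fin := hfin
  cop := hcop
  ns x hx := by simpa using ns x hx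
  nt x hx := by simpa using nt x hx
  fix x hx h1 h2 := hfix x hx (by simpa using h1) (by simpa using h2)

end Conj

section Quot

variable {K : Type*} [Field K] {Γ : Type*} [Group Γ] {V : Type*} [AddCommGroup V] [Module K V]

/-- The image of an abstract `S₃`-hypothesis under a representation:
on an irreducible module, the commutators of `H` act trivially. -/
theorem irreducible_comm {p : ℕ} [hp : Fact p.Prime] [CharP K p] [IsAlgClosed K]
    [FiniteDimensional K V] [Nontrivial V] [Finite Γ] (ρ : Γ →* Module.End K V)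
    {H : Subgroup Γ} [hHn : H.Normal] [hHs : Group.IsSolvable H] {s t : Γ} (hs3 : s ^ 3 = 1)
    (ht2 : t ^ 2 = 1) (hrel : t * s * t⁻¹ = s⁻¹) (h : Hyp (MulAut.conj s) (MulAut.conj t) H)
    (hfix : ∀ w, ρ s w = w → ρ t w = w → w = 0)
    (hirr : ∀ W : Submodule K V, (∀ h ∈ H, ∀ w ∈ W, ρ h w ∈ W) → (∀ w ∈ W, ρ s w ∈ W) →
      (∀ w ∈ W, ρ t w ∈ W) → W = ⊥ ∨ W = ⊤) : ∀ a ∈ H, ∀ b ∈ H, ρ (a * b) = ρ (b * a) := by
  classical
  set N : Subgroup Γ := ρ.ker with hN
  haveI hNn : N.Normal := MonoidHom.normal_ker ρ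
  let ρ' : Γ ⧸ N →* Module.End K V := QuotientGroup.lift N ρ (fun x hx => hx)
  have hρ' : ∀ x : Γ, ρ' (x : Γ ⧸ N) = ρ x := fun x => rfl
  have hinj : Function.Injective ρ' := by
    intro a b hab
    obtain ⟨x, rfl⟩ := QuotientGroup.mk_surjective a
    obtain ⟨y, rfl⟩ := QuotientGroup.mk_surjective b
    rw [hρ', hρ'] at hab
    rw [QuotientGroup.eq, hN, MonoidHom.mem_ker, map_mul]
    have h1 : ρ x⁻¹ * ρ x = 1 := by rw [← map_mul]; simp
    rw [← hab, h1]
  set π : Γ →* Γ ⧸ N := QuotientGroup.mk' N with hπ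
  have hπs : Function.Surjective π := QuotientGroup.mk'_surjective N
  set H' : Subgroup (Γ ⧸ N) := H.map π with hH'
  haveI hH'n : H'.Normal := Subgroup.Normal.map hHn π hπs
  have hsurjH : Function.Surjective (π.subgroupMap H) := π.subgroupMap_surjective H
  haveI hH's : Group.IsSolvable H' := Group.isSolvable_of_surjective hsurjH
  haveI hfinH := h.fin
  have hfixH' : ∀ x ∈ H', π s * x * (π s)⁻¹ = x → π t * x * (π t)⁻¹ = x → x = 1 := by
    rintro _ ⟨x, hx, rfl⟩ h1 h2
    have hL : x ∈ N ⊓ H := by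
      have hin : ∀ g : Γ, g * x * g⁻¹ * x⁻¹ ∈ H → π (g * x * g⁻¹) = π x → x⁻¹ * (g * x * g⁻¹) ∈ N ⊓ H := by
        intro g hg1 hg2
        refine ⟨?_, ?_⟩
        · have : (π x)⁻¹ * π (g * x * g⁻¹) = 1 := by rw [hg2]; simp
          rw [← map_inv, ← map_mul] at this
          have h3 : (x⁻¹ * (g * x * g⁻¹) : Γ) ∈ N := (QuotientGroup.eq_one_iff _).mp this
          exact h3
        · have h3 : x⁻¹ * (g * x * g⁻¹) = x⁻¹ * (g * x * g⁻¹ * x⁻¹) * x := by group
          rw [h3]
          exact H.mul_mem (H.mul_mem (H.inv_mem hx) hg1) hx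
      refine h.lift (L := N ⊓ H) inf_le_right ?_ ?_ hx ?_ ?_
      · rintro y ⟨hy1, hy2⟩
        exact ⟨hNn.conj_mem y hy1 s, h.ns y hy2⟩
      · rintro y ⟨hy1, hy2⟩
        exact ⟨hNn.conj_mem y hy1 t, h.nt y hy2⟩
      · have := hin s (H.mul_mem (h.ns x hx) (H.inv_mem hx)) (by simpa using h1)
        exact this
      · have := hin t (H.mul_mem (h.nt x hx) (H.inv_mem hx)) (by simpa using h2)
        exact this
    exact (QuotientGroup.eq_one_iff _).mpr hL.1
  have hyp' : Hyp (MulAut.conj (π s)) (MulAut.conj (π t)) H' := by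
    refine hyp_of_conj (by rw [← map_pow, hs3, map_one]) (by rw [← map_pow, ht2, map_one])
      (by rw [← map_mul, ← map_inv, ← map_mul, hrel, map_inv]) inferInstance ?_ ?_ ?_ hfixH'
    · exact Nat.Coprime.coprime_dvd_left (Subgroup.card_map_dvd H π) h.cop
    · rintro _ ⟨x, hx, rfl⟩
      exact ⟨s * x * s⁻¹, h.ns x hx, by simp⟩
    · rintro _ ⟨x, hx, rfl⟩
      exact ⟨t * x * t⁻¹, h.nt x hx, by simp⟩
  have hcomm := core_abelian (p := p) ρ' hinj (H := H') (s := π s) (t := π t)
    (by rw [← map_pow, hs3, map_one]) (by rw [← map_pow, ht2, map_one])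
    (by rw [← map_mul, ← map_inv, ← map_mul, hrel, map_inv]) hyp'
    (fun w h1 h2 => hfix w h1 h2)
    (by
      intro W h1 h2 h3
      refine hirr W ?_ h2 h3
      intro x hx w hw
      exact h1 (π x) ⟨x, hx, rfl⟩ w hw)
  intro a ha b hb
  have := hcomm (π a) ⟨a, ha, rfl⟩ (π b) ⟨b, hb, rfl⟩
  rw [← map_mul, ← map_mul] at this
  exact congrArg ρ' this

end Quot

section Module

universe v

variable {K : Type*} [Field K] {Γ : Type*} [Group Γ]

/-- The representation on an invariant subspace. -/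
def restrictRep {V : Type*} [AddCommGroup V] [Module K V] (ρ : Γ →* Module.End K V)
    (U : Submodule K V) (hU : ∀ g, ∀ w ∈ U, ρ g w ∈ U) : Γ →* Module.End K U where
  toFun g := (ρ g).restrict (hU g)
  map_one' := by ext w; simp
  map_mul' g h := by ext w; simp

/-- The representation on a quotient by an invariant subspace. -/
def quotRep {V : Type*} [AddCommGroup V] [Module K V] (ρ : Γ →* Module.End K V)
    (U : Submodule K V) (hU : ∀ g, ∀ w ∈ U, ρ g w ∈ U) : Γ →* Module.End K (V ⧸ U) where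
  toFun g := U.mapQ U (ρ g) (fun w hw => hU g w hw)
  map_one' := by ext w; simp
  map_mul' g h := by ext w; simp

theorem trivial_on_module {p : ℕ} [hp : Fact p.Prime] [CharP K p] [IsAlgClosed K]
    (h6 : (6 : K) ≠ 0) [Finite Γ] {H : Subgroup Γ} [hHn : H.Normal] [hHs : Group.IsSolvable H]
    {s t : Γ} (hs3 : s ^ 3 = 1) (ht2 : t ^ 2 = 1) (hrel : t * s * t⁻¹ = s⁻¹)
    (h : Hyp (MulAut.conj s) (MulAut.conj t) H)
    (hgen : ∀ g : Γ, ∃ y ∈ H, ∃ a b : ℕ, g = y * s ^ a * t ^ b)
    {x : Γ} (hx : x ∈ ⁅H, H⁆) {m : ℕ} (hm : x ^ m = 1) (hmK : (m : K) ≠ 0) :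
    ∀ (n : ℕ) (V : Type v) [AddCommGroup V] [Module K V] [FiniteDimensional K V]
      (ρ : Γ →* Module.End K V), Module.finrank K V = n →
      (∀ w, ρ s w = w → ρ t w = w → w = 0) → ρ x = 1 := by
  classical
  intro n
  induction n using Nat.strong_induction_on with
  | _ n ih =>
    intro V _ _ _ ρ hn hfix
    by_cases hV : Subsingleton V
    · ext w
      exact Subsingleton.elim _ _
    rw [not_subsingleton_iff_nontrivial] at hV
    let S : Set (Submodule K V) := {U | U ≠ ⊥ ∧ (∀ y ∈ H, ∀ w ∈ U, ρ y w ∈ U) ∧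
      (∀ w ∈ U, ρ s w ∈ U) ∧ (∀ w ∈ U, ρ t w ∈ U)}
    have hS : S.Nonempty := ⟨⊤, top_ne_bot, by simp, by simp, by simp⟩
    obtain ⟨U, ⟨hUne, hUH, hUs, hUt⟩, hmin⟩ := (wellFounded_lt (α := Submodule K V)).has_min S hS
    have hpow : ∀ {g : Γ}, (∀ w ∈ U, ρ g w ∈ U) → ∀ k : ℕ, ∀ w ∈ U, ρ (g ^ k) w ∈ U := by
      intro g hg k
      induction k with
      | zero => intro w hw; simpa using hw
      | succ k ihk =>
        intro w hw
        rw [pow_succ, map_mul]
        exact ihk _ (hg w hw)
    have hUg : ∀ g, ∀ w ∈ U, ρ g w ∈ U := by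
      intro g w hw
      obtain ⟨y, hy, a, b, rfl⟩ := hgen g
      rw [map_mul, map_mul]
      exact hUH y hy _ (hpow hUs a _ (hpow hUt b _ hw))
    -- the irreducible bottom part
    let ρ₁ := restrictRep ρ U hUg
    have hρ₁ : ∀ g (w : U), ((ρ₁ g w : U) : V) = ρ g w := fun g w => rfl
    haveI hUnt : Nontrivial U := (Submodule.nontrivial_iff_ne_bot).mpr hUne
    have hirr : ∀ W : Submodule K U, (∀ h ∈ H, ∀ w ∈ W, ρ₁ h w ∈ W) → (∀ w ∈ W, ρ₁ s w ∈ W) →
        (∀ w ∈ W, ρ₁ t w ∈ W) → W = ⊥ ∨ W = ⊤ := by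
      intro W h1 h2 h3
      by_cases hW : W = ⊥
      · exact Or.inl hW
      right
      have hmem : W.map U.subtype ∈ S := by
        refine ⟨?_, ?_, ?_, ?_⟩
        · intro hbot
          apply hW
          rw [eq_bot_iff]
          intro w hw
          have hw' : (w : V) ∈ W.map U.subtype := ⟨w, hw, rfl⟩
          rw [hbot, Submodule.mem_bot] at hw'
          exact (Submodule.mem_bot K).mpr (Subtype.ext hw')
        · rintro y hy _ ⟨w, hw, rfl⟩
          exact ⟨_, h1 y hy w hw, rfl⟩
        · rintro _ ⟨w, hw, rfl⟩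
          exact ⟨_, h2 w hw, rfl⟩
        · rintro _ ⟨w, hw, rfl⟩
          exact ⟨_, h3 w hw, rfl⟩
      have hle : W.map U.subtype ≤ U := Submodule.map_subtype_le U W
      have heq : W.map U.subtype = U := by
        by_contra hne
        exact hmin _ hmem (lt_of_le_of_ne hle hne)
      rw [eq_top_iff]
      intro w _
      have hw : (w : V) ∈ W.map U.subtype := by rw [heq]; exact w.2
      obtain ⟨w', hw', hww'⟩ := hw
      have : w' = w := Subtype.ext hww'
      rwa [← this]
    have hfix₁ : ∀ w, ρ₁ s w = w → ρ₁ t w = w → w = 0 := by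
      intro w h1 h2
      apply Subtype.ext
      exact hfix _ (congrArg Subtype.val h1) (congrArg Subtype.val h2)
    have hcomm := irreducible_comm (p := p) ρ₁ hs3 ht2 hrel h hfix₁ hirr
    have hx₁ : ρ₁ x = 1 := by
      have hle : ⁅H, H⁆ ≤ ρ₁.ker := by
        rw [Subgroup.commutator_le]
        intro a ha b hb
        rw [MonoidHom.mem_ker, commutatorElement_def]
        have h1 : ρ₁ (a * b) = ρ₁ (b * a) := hcomm a ha b hb
        have h2 : a * b * a⁻¹ * b⁻¹ = (a * b) * (b * a)⁻¹ := by group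
        rw [h2, map_mul, h1, ← map_mul, mul_inv_cancel, map_one]
      exact hle hx
    -- the quotient part
    let ρ₂ := quotRep ρ U hUg
    have hρ₂ : ∀ g (v : V), ρ₂ g (Submodule.Quotient.mk v) = Submodule.Quotient.mk (ρ g v) :=
      fun g v => rfl
    have hfix₂ : ∀ w, ρ₂ s w = w → ρ₂ t w = w → w = 0 := by
      intro w h1 h2
      obtain ⟨v, rfl⟩ := Submodule.Quotient.mk_surjective U w
      have hq : ∀ g : Γ, ρ₂ g (Submodule.Quotient.mk v) = Submodule.Quotient.mk v →
          (Submodule.Quotient.mk (ρ g v) : V ⧸ U) = Submodule.Quotient.mk v := fun g hg => hg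
      have hmul : ∀ g g' : Γ, ρ₂ g (Submodule.Quotient.mk v) = Submodule.Quotient.mk v →
          ρ₂ g' (Submodule.Quotient.mk v) = Submodule.Quotient.mk v →
          ρ₂ (g * g') (Submodule.Quotient.mk v) = Submodule.Quotient.mk v := by
        intro g g' hg hg'
        rw [map_mul, Module.End.mul_apply, hg', hg]
      set e : V := v + ρ s v + ρ (s * s) v + ρ t v + ρ (s * t) v + ρ (s * s * t) v with he
      have hss : s * (s * s) = 1 := by
        rw [← hs3]; simp only [pow_succ, pow_zero, one_mul, mul_assoc]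
      have hsinv : s⁻¹ = s * s := by
        rw [inv_eq_iff_mul_eq_one]; exact hss
      have hts : t * s = s * s * t := by
        rw [← hsinv, ← hrel]; group
      have htt : t * t = 1 := by
        rw [← ht2]; simp only [pow_succ, pow_zero, one_mul]
      have ha : ∀ (g g' : Γ), ρ g (ρ g' v) = ρ (g * g') v := by
        intro g g'; rw [map_mul, Module.End.mul_apply]
      have hes : ρ s e = e := by
        rw [he]
        simp only [map_add, ha]
        have h1 : s * (s * s) = 1 := hss
        have h2 : s * (s * t) = s * s * t := by group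
        have h3 : s * (s * s * t) = t := by
          rw [← mul_assoc, ← mul_assoc, mul_assoc s s s, hss, one_mul]
        rw [h1, h2, h3, map_one, Module.End.one_apply]
        abel
      have het : ρ t e = e := by
        rw [he]
        simp only [map_add, ha]
        have h1 : t * (s * s) = s * t := by
          rw [← mul_assoc, hts, mul_assoc, hts]
          have h5 : s * s * (s * s * t) = (s * (s * s)) * (s * t) := by group
          rw [h5, hss, one_mul]
        have h2 : t * (s * t) = s * s := by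
          rw [← mul_assoc, hts, mul_assoc, htt, mul_one]
        have h3 : t * (s * s * t) = s := by
          rw [← mul_assoc, h1, mul_assoc, htt, mul_one]
        rw [h1, h2, h3, hts, htt, map_one, Module.End.one_apply]
        abel
      have he0 : e = 0 := hfix e hes het
      have hsum : (Submodule.Quotient.mk e : V ⧸ U) = (6 : K) • Submodule.Quotient.mk v := by
        rw [he]
        simp only [Submodule.Quotient.mk_add]
        rw [hq s h1, hq t h2, hq _ (hmul s s h1 h1), hq _ (hmul s t h1 h2),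
          hq _ (hmul (s * s) t (hmul s s h1 h1) h2)]
        have : (6 : K) = 1 + 1 + 1 + 1 + 1 + 1 := by norm_num
        rw [this]
        simp only [add_smul, one_smul]
      rw [he0, Submodule.Quotient.mk_zero] at hsum
      exact ((smul_eq_zero.mp hsum.symm).resolve_left h6)
    have hlt : Module.finrank K (V ⧸ U) < n := by
      have h1 := Submodule.finrank_quotient_add_finrank U
      have h2 : 0 < Module.finrank K U := Module.finrank_pos
      omega
    have hx₂ : ρ₂ x = 1 := ih _ hlt (V ⧸ U) ρ₂ rfl hfix₂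
    -- combine
    ext v
    set d : V := ρ x v - v with hd
    have hdU : d ∈ U := by
      have h1 : (Submodule.Quotient.mk (ρ x v) : V ⧸ U) = Submodule.Quotient.mk v := by
        rw [← hρ₂, hx₂]; rfl
      exact (Submodule.Quotient.eq U).mp h1
    have hdfix : ρ x d = d := by
      have h1 : ρ₁ x ⟨d, hdU⟩ = ⟨d, hdU⟩ := by rw [hx₁]; rfl
      exact congrArg Subtype.val h1
    have hk : ∀ k : ℕ, ρ (x ^ k) v = v + (k : K) • d := by
      intro k
      induction k with
      | zero => simp
      | succ k ihk =>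
        rw [pow_succ', map_mul, Module.End.mul_apply, ihk, map_add, map_smul, hdfix]
        have : ρ x v = v + d := by rw [hd]; abel
        rw [this]
        push_cast
        rw [add_smul, one_smul]
        abel
    have h1 := hk m
    rw [hm, map_one, Module.End.one_apply] at h1
    have h2 : (m : K) • d = 0 := by
      have := h1
      exact (left_eq_add.mp this)
    have h3 : d = 0 := (smul_eq_zero.mp h2).resolve_left hmK
    rw [Module.End.one_apply]
    exact sub_eq_zero.mp h3

end Module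

end Cfsg.Agent.Lib.S3Fpf
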