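import Mathlib
import Cfsg.Agent.Lib.S3Fpf.Outer
import Cfsg.Agent.Lib.PGroup.FrattiniBasis
import Cfsg.Agent.Lib.Solvable.PSeries3
import Cfsg.Agent.Lib.Components.PComponent

/-!
# The dual of a normal subgroup and the final reduction
-/

set_option autoImplicit false
set_option linter.style.haveILetI false

namespace Cfsg.Agent.Lib.S3Fpf

open Cfsg
open scoped commutatorElement

section Dual

variable {K : Type*} [Field K] {Γ : Type*} [Group Γ] (P : Subgroup Γ) [hP : P.Normal]

/-- Additive characters of a normal subgroup, with the conjugation action. -/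
def dualRep : Γ →* Module.End K (Additive P →+ K) where
  toFun g :=
    { toFun := fun f => f.comp (MonoidHom.toAdditive
        ((MulAut.conjNormal g⁻¹ : MulAut P).toMonoidHom))
      map_add' := fun _ _ => rfl
      map_smul' := fun _ _ => rfl }
  map_one' := by
    ext f y
    simp
  map_mul' g h := by
    ext f y
    simp [Module.End.mul_apply]

variable {P}

theorem dualRep_apply (g : Γ) (f : Additive P →+ K) (y : P) :
    dualRep P g f (Additive.ofMul y) = f (Additive.ofMul (MulAut.conjNormal g⁻¹ y)) := rfl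

instance dualRep_finite [Finite P] : FiniteDimensional K (Additive P →+ K) := by
  let L : (Additive P →+ K) →ₗ[K] (Additive P → K) :=
    { toFun := fun f y => f y
      map_add' := fun _ _ => rfl
      map_smul' := fun _ _ => rfl }
  refine Module.Finite.of_injective L ?_
  intro f g hfg
  ext y
  exact congrFun hfg (Additive.ofMul y)

theorem dualRep_fixed_eq_zero {s t : Γ} (h : Hyp (MulAut.conj s) (MulAut.conj t) P)
    (f : Additive P →+ K) (h1 : dualRep P s f = f) (h2 : dualRep P t f = f) : f = 0 := by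
  classical
  let f' : P →* Multiplicative K := AddMonoidHom.toMultiplicativeRight f
  set S : Subgroup Γ := f'.ker.map P.subtype with hS
  have hSP : S ≤ P := Subgroup.map_subtype_le _
  have hfix : ∀ g : Γ, dualRep P g f = f → ∀ x (hx : x ∈ P),
      x⁻¹ * MulAut.conj g x ∈ S := by
    intro g hg x hx
    let y : P := ⟨x, hx⟩
    let y' : P := MulAut.conjNormal g y
    have h3 : f (Additive.ofMul y') = f (Additive.ofMul y) := by
      conv_lhs => rw [← hg]
      rw [dualRep_apply]
      congr 2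
      simp [y']
    refine ⟨y⁻¹ * y', ?_, ?_⟩
    · rw [SetLike.mem_coe, MonoidHom.mem_ker]
      have : f' (y⁻¹ * y') = 1 := by
        rw [map_mul, map_inv]
        change (Multiplicative.ofAdd (f (Additive.ofMul y)))⁻¹ *
          Multiplicative.ofAdd (f (Additive.ofMul y')) = 1
        rw [h3]
        simp
      exact this
    · simp [y', y, MulAut.conjNormal_apply]
  have hle : P ≤ S := h.le_of_comm_mem hSP (hfix s h1) (hfix t h2)
  ext y
  obtain ⟨y₀, hy₀, hyy⟩ := hle y.2
  have hy₀' : y₀ = y := Subtype.ext hyy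
  subst hy₀'
  have h5 : f' y₀ = 1 := hy₀
  exact h5

theorem dualRep_trivial {x : Γ} (hx : (dualRep P x : Module.End K (Additive P →+ K)) = 1)
    (f : Additive P →+ K) (y : P) :
    f (Additive.ofMul (MulAut.conjNormal x y)) = f (Additive.ofMul y) := by
  have h1 : (dualRep P x⁻¹ : Module.End K (Additive P →+ K)) = 1 := by
    have h2 : (dualRep P x : Module.End K (Additive P →+ K)) * dualRep P x⁻¹ = 1 := by
      rw [← map_mul, mul_inv_cancel, map_one]
    rwa [hx, one_mul] at h2
  have h3 := dualRep_apply (K := K) x⁻¹ f y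
  rw [h1, inv_inv] at h3
  exact h3.symm

end Dual

section Sep

universe u

theorem frattini_of_sep {P : Type u} [Group P] [Finite P] {p : ℕ} [hp : Fact p.Prime]
    (hP : IsPGroup p P) {K : Type*} [Field K] [CharP K p] {a : P}
    (h : ∀ f : Additive P →+ K, f (Additive.ofMul a) = 0) : a ∈ frattini P := by
  obtain ⟨V, _, _, π, -, hker⟩ := Cfsg.Agent.Lib.PGroup.FrattiniBasis.exists_vector_space hP
  rw [← hker, MonoidHom.mem_ker]
  by_contra hne
  have hv : Multiplicative.toAdd (π a) ≠ 0 := fun h0 => hne h0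
  obtain ⟨φ, hφ⟩ : ∃ φ : Module.Dual (ZMod p) V, φ (Multiplicative.toAdd (π a)) ≠ 0 := by
    by_contra hcon
    push Not at hcon
    exact hv ((Module.forall_dual_apply_eq_zero_iff (ZMod p) _).mp hcon)
  let c : ZMod p →+* K := ZMod.castHom (dvd_refl p) K
  let f : Additive P →+ K :=
    (c.toAddMonoidHom.comp φ.toAddMonoidHom).comp (MonoidHom.toAdditiveLeft π)
  have h1 := h f
  have h2 : f (Additive.ofMul a) = c (φ (Multiplicative.toAdd (π a))) := rfl
  rw [h2] at h1
  exact hφ ((map_eq_zero c).mp h1)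

end Sep

section Main

universe u

/-- The element of order three. -/
def sigma0 : Equiv.Perm (Fin 3) := finRotate 3

/-- The element of order two. -/
def tau0 : Equiv.Perm (Fin 3) := Equiv.swap 0 1

theorem sigma0_cube : sigma0 ^ 3 = 1 := by decide

theorem tau0_sq : tau0 ^ 2 = 1 := by decide

theorem tau0_rel : tau0 * sigma0 * tau0⁻¹ = sigma0⁻¹ := by decide

theorem perm_gen : ∀ a : Equiv.Perm (Fin 3), ∃ i ∈ Finset.range 3, ∃ j ∈ Finset.range 2,
    a = sigma0 ^ i * tau0 ^ j := by decide

theorem p_element_trivial {K : Type*} [Field K] {p : ℕ} [hp : Fact p.Prime] [CharP K p]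
    [IsAlgClosed K] (h6 : (6 : K) ≠ 0) {G : Type u} [Group G] [Finite G] [Group.IsSolvable G]
    (φ : Equiv.Perm (Fin 3) →* MulAut G) (hcop : (Nat.card G).Coprime 6)
    (hfpf : ∀ g : G, φ sigma0 g = g → φ tau0 g = g → g = 1)
    (hcore : pPrimeCore p G = ⊥) {x : G} (hx : x ∈ commutator G) {m : ℕ} (hm : x ^ m = 1)
    (hmp : ¬ p ∣ m) : x = 1 := by
  classical
  haveI hfin : Finite (G ⋊[φ] Equiv.Perm (Fin 3)) :=
    Finite.of_equiv _ SemidirectProduct.equivProd.symm
  let ι : G →* G ⋊[φ] Equiv.Perm (Fin 3) := SemidirectProduct.inl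
  have hιinj : Function.Injective ι := SemidirectProduct.inl_injective
  let r : Equiv.Perm (Fin 3) →* G ⋊[φ] Equiv.Perm (Fin 3) := SemidirectProduct.inr
  let s : G ⋊[φ] Equiv.Perm (Fin 3) := r sigma0
  let t : G ⋊[φ] Equiv.Perm (Fin 3) := r tau0
  have hs3 : s ^ 3 = 1 := by rw [← map_pow, sigma0_cube, map_one]
  have ht2 : t ^ 2 = 1 := by rw [← map_pow, tau0_sq, map_one]
  have hrel : t * s * t⁻¹ = s⁻¹ := by
    rw [← map_inv, ← map_inv, ← map_mul, ← map_mul, tau0_rel]
  set H : Subgroup (G ⋊[φ] Equiv.Perm (Fin 3)) := ι.range with hH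
  haveI hHn : H.Normal := by
    rw [hH, SemidirectProduct.range_inl_eq_ker_rightHom]
    exact MonoidHom.normal_ker _
  haveI hHs : Group.IsSolvable H :=
    Group.isSolvable_of_surjective (f := ι.rangeRestrict) ι.rangeRestrict_surjective
  have hconj : ∀ a n, r a * ι n * (r a)⁻¹ = ι (φ a n) := by
    intro a n
    rw [← map_inv]
    exact (SemidirectProduct.inl_aut a n).symm
  have hcard : Nat.card H = Nat.card G :=
    Nat.card_congr (MonoidHom.ofInjective hιinj).symm.toEquiv
  have hhyp : Hyp (MulAut.conj s) (MulAut.conj t) H := by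
    refine hyp_of_conj hs3 ht2 hrel inferInstance (by rwa [hcard]) ?_ ?_ ?_
    · rintro _ ⟨n, rfl⟩
      exact ⟨φ sigma0 n, (hconj _ n).symm⟩
    · rintro _ ⟨n, rfl⟩
      exact ⟨φ tau0 n, (hconj _ n).symm⟩
    · rintro _ ⟨n, rfl⟩ h1 h2
      rw [hconj] at h1 h2
      rw [hfpf n (hιinj h1) (hιinj h2), map_one]
  have hpowr : ∀ (a : Equiv.Perm (Fin 3)), ∃ i j : ℕ, r a = s ^ i * t ^ j := by
    intro a
    obtain ⟨i, -, j, -, rfl⟩ := perm_gen a
    exact ⟨i, j, by rw [map_mul, map_pow, map_pow]⟩
  have hgen : ∀ g : G ⋊[φ] Equiv.Perm (Fin 3), ∃ y ∈ H, ∃ a b : ℕ, g = y * s ^ a * t ^ b := by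
    intro g
    obtain ⟨i, j, hij⟩ := hpowr g.right
    refine ⟨ι g.left, ⟨g.left, rfl⟩, i, j, ?_⟩
    rw [mul_assoc, ← hij]
    exact (SemidirectProduct.inl_left_mul_inr_right g).symm
  haveI hP0n : (pCore p G).Normal := Cfsg.Agent.Lib.Basic.PCore.pCore_normal p G
  haveI hP0c : (pCore p G).Characteristic := Cfsg.Agent.Lib.Basic.PCore.pCore_char p G
  set P0 := pCore p G with hP0
  set P : Subgroup (G ⋊[φ] Equiv.Perm (Fin 3)) := P0.map ι with hP
  have hφP : ∀ a : Equiv.Perm (Fin 3), ∀ y ∈ P0, φ a y ∈ P0 := by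
    intro a y hy
    have h1 := (Subgroup.characteristic_iff_comap_eq.mp hP0c) (φ a)
    rw [← h1] at hy
    exact hy
  haveI hPn : P.Normal := by
    constructor
    rintro _ ⟨y, hy, rfl⟩ g
    have hg : g = ι g.left * r g.right := (SemidirectProduct.inl_left_mul_inr_right g).symm
    have h1 : g * ι y * g⁻¹ = ι (g.left * φ g.right y * g.left⁻¹) := by
      conv_lhs => rw [hg]
      rw [map_mul, map_mul, map_inv, ← hconj]
      group
    rw [h1]
    exact ⟨_, hP0n.conj_mem _ (hφP _ _ hy) _, rfl⟩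
  have hPH : P ≤ H := by
    rintro _ ⟨y, -, rfl⟩
    exact ⟨y, rfl⟩
  have hyp_P : Hyp (MulAut.conj s) (MulAut.conj t) P :=
    hhyp.mono hPH (fun y hy => hPn.conj_mem y hy s) (fun y hy => hPn.conj_mem y hy t)
  have hxH : ι x ∈ ⁅H, H⁆ := by
    have h1 : (commutator G).map ι = ⁅H, H⁆ := by
      rw [commutator_def, Subgroup.map_commutator, hH, MonoidHom.range_eq_map]
    rw [← h1]
    exact ⟨x, hx, rfl⟩
  have hmK : ((m : ℕ) : K) ≠ 0 := by
    intro h0
    exact hmp ((CharP.cast_eq_zero_iff K p m).mp h0)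
  haveI hPfin : Finite P := inferInstance
  have hxρ : (dualRep P (ι x) : Module.End K (Additive P →+ K)) = 1 :=
    trivial_on_module (p := p) h6 hs3 ht2 hrel hhyp hgen hxH
      (by rw [← map_pow, hm, map_one]) hmK _ (Additive P →+ K) (dualRep P) rfl
      (fun f h1 h2 => dualRep_fixed_eq_zero hyp_P f h1 h2)
  have hP0p : IsPGroup p P0 := Cfsg.Agent.Lib.Basic.PCore.pCore_isPGroup p
  have hxP : x ∈ P0 := by
    refine Cfsg.Agent.Lib.Solvable.PSeries3.mem_pCore_of_commutator_mem_frattini
      Cfsg.Agent.Lib.Solvable.PSeries.isPSolvable_of_solvable hcore x ?_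
    intro y hy
    let y₀ : P0 := ⟨y, hy⟩
    let y₁ : P0 := ⟨x * y * x⁻¹, hP0n.conj_mem y hy x⟩
    let e : P0 ≃* P := P0.equivMapOfInjective ι hιinj
    have hz : y₁ * y₀⁻¹ ∈ frattini P0 := by
      refine frattini_of_sep (K := K) hP0p (fun f => ?_)
      let f₁ : Additive P →+ K := f.comp (MonoidHom.toAdditive e.symm.toMonoidHom)
      have h1 := dualRep_trivial hxρ f₁ (e y₀)
      have h2 : (MulAut.conjNormal (ι x) (e y₀) : P) = e y₁ := by
        apply Subtype.ext
        change ι x * ι y * (ι x)⁻¹ = ι (x * y * x⁻¹)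
        rw [map_mul, map_mul, map_inv]
      rw [h2] at h1
      have h3 : ∀ z : P0, f₁ (Additive.ofMul (e z)) = f (Additive.ofMul z) := by
        intro z
        change f (Additive.ofMul (e.symm (e z))) = _
        rw [e.symm_apply_apply]
      rw [h3, h3] at h1
      rw [ofMul_mul, map_add, h1, ofMul_inv, map_neg, add_neg_cancel]
    exact ⟨_, hz, rfl⟩
  obtain ⟨k, hk⟩ := hP0p ⟨x, hxP⟩
  have hk' : x ^ (p ^ k) = 1 := by
    have := congrArg Subtype.val hk
    simpa using this
  have h1 : orderOf x ∣ p ^ k := orderOf_dvd_of_pow_eq_one hk'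
  have h2 : orderOf x ∣ m := orderOf_dvd_of_pow_eq_one hm
  have h3 : Nat.Coprime (p ^ k) m :=
    Nat.Coprime.pow_left _ ((Nat.Prime.coprime_iff_not_dvd hp.out).mpr hmp)
  have h4 : orderOf x = 1 := Nat.eq_one_of_dvd_coprimes h3 h1 h2
  exact orderOf_eq_one_iff.mp h4

theorem commutator_isPGroup {G : Type u} [Group G] [Finite G] [Group.IsSolvable G]
    (φ : Equiv.Perm (Fin 3) →* MulAut G) (hcop : (Nat.card G).Coprime 6)
    (hfpf : ∀ g : G, φ sigma0 g = g → φ tau0 g = g → g = 1) (p : ℕ) [hp : Fact p.Prime]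
    (hcore : pPrimeCore p G = ⊥) : IsPGroup p (commutator G) := by
  classical
  by_cases hp6 : p ∣ 6
  · have hc : (Nat.card G).Coprime p := Nat.Coprime.coprime_dvd_right hp6 hcop
    have htop : (⊤ : Subgroup G) ≤ pPrimeCore p G :=
      le_sSup ⟨inferInstance, by rwa [Subgroup.card_top]⟩
    rw [hcore] at htop
    intro x
    refine ⟨0, ?_⟩
    have h1 := htop (Subgroup.mem_top x.1)
    rw [Subgroup.mem_bot] at h1
    apply Subtype.ext
    simp [h1]
  have h6 : (6 : AlgebraicClosure (ZMod p)) ≠ 0 := by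
    intro h
    have h0 : ((6 : ℕ) : AlgebraicClosure (ZMod p)) = 0 := by exact_mod_cast h
    exact hp6 ((CharP.cast_eq_zero_iff _ p 6).mp h0)
  intro g
  obtain ⟨e, n', hn', hn⟩ := Nat.exists_eq_pow_mul_and_not_dvd
    (orderOf_pos (g : G)).ne' p hp.out.ne_one
  refine ⟨e, ?_⟩
  apply Subtype.ext
  have hy : ((g : G) ^ (p ^ e)) ∈ commutator G := (commutator G).pow_mem g.2 _
  have h1 : ((g : G) ^ (p ^ e)) ^ n' = 1 := by
    rw [← pow_mul, ← hn, pow_orderOf_eq_one]
  have := p_element_trivial h6 φ hcop hfpf hcore hy h1 hn'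
  simpa using this

theorem commutator_isNilpotent {G : Type u} [Group G] [Finite G] [Group.IsSolvable G]
    (φ : Equiv.Perm (Fin 3) →* MulAut G) (hcop : (Nat.card G).Coprime 6)
    (hfpf : ∀ g : G, φ sigma0 g = g → φ tau0 g = g → g = 1) :
    Group.IsNilpotent (commutator G) := by
  classical
  have hhyp : Hyp (φ sigma0) (φ tau0) (⊤ : Subgroup G) := by
    refine ⟨?_, ?_, ?_, inferInstance, by rwa [Subgroup.card_top], fun _ _ => trivial,
      fun _ _ => trivial, fun x _ h1 h2 => hfpf x h1 h2⟩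
    · intro x
      have h1 : φ sigma0 * φ sigma0 * φ sigma0 = 1 := by
        rw [← map_mul, ← map_mul]
        have : sigma0 * sigma0 * sigma0 = 1 := by decide
        rw [this, map_one]
      exact DFunLike.congr_fun h1 x
    · intro x
      have h1 : φ tau0 * φ tau0 = 1 := by
        rw [← map_mul]
        have : tau0 * tau0 = 1 := by decide
        rw [this, map_one]
      exact DFunLike.congr_fun h1 x
    · intro x
      have h1 : φ tau0 * φ sigma0 = φ sigma0 * φ sigma0 * φ tau0 := by
        rw [← map_mul, ← map_mul, ← map_mul]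
        have : tau0 * sigma0 = sigma0 * sigma0 * tau0 := by decide
        rw [this]
      exact DFunLike.congr_fun h1 x
  have hquot : ∀ (p : ℕ) [Fact p.Prime], IsPGroup p (commutator (G ⧸ pPrimeCore p G)) := by
    intro p hp
    set N := pPrimeCore p G with hN
    haveI hNn : N.Normal := Cfsg.Agent.Lib.Basic.PCore.pPrimeCore_normal p G
    haveI hNc : N.Characteristic := Cfsg.Agent.Lib.Solvable.PSeries.pPrimeCore_char p G
    have hmap : ∀ a, N.map (φ a).toMonoidHom = N := fun a =>
      (Subgroup.characteristic_iff_map_eq.mp hNc) (φ a)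
    let φ' : Equiv.Perm (Fin 3) →* MulAut (G ⧸ N) :=
      { toFun := fun a => QuotientGroup.congr N N (φ a) (hmap a)
        map_one' := by
          ext q
          obtain ⟨x, rfl⟩ := QuotientGroup.mk_surjective q
          simp
        map_mul' := by
          intro a b
          ext q
          obtain ⟨x, rfl⟩ := QuotientGroup.mk_surjective q
          change ((φ (a * b) x : G) : G ⧸ N) = ((φ a (φ b x) : G) : G ⧸ N)
          rw [map_mul]
          rfl }
    have hφ' : ∀ a (x : G), φ' a (x : G ⧸ N) = ((φ a x : G) : G ⧸ N) := fun a x => rfl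
    refine commutator_isPGroup φ' ?_ ?_ p
      (Cfsg.Agent.Lib.Components.PComponent.pPrimeCore_quotient_eq_bot p)
    · exact Nat.Coprime.coprime_dvd_left (Subgroup.card_quotient_dvd_card N) hcop
    · intro q h1 h2
      obtain ⟨x, rfl⟩ := QuotientGroup.mk_surjective q
      rw [hφ'] at h1 h2
      have hmemN : ∀ a, ∀ y ∈ N, φ a y ∈ N := by
        intro a y hy
        rw [← hmap a]
        exact ⟨y, hy, rfl⟩
      have : x ∈ N := hhyp.lift (L := N) le_top (hmemN _) (hmemN _) trivial
        (by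
          have := (QuotientGroup.eq (s := N)).mp h1.symm
          exact this)
        (by
          have := (QuotientGroup.eq (s := N)).mp h2.symm
          exact this)
      exact (QuotientGroup.eq_one_iff x).mpr this
  -- assemble
  let I := {p // p ∈ (Nat.card G).primeFactors}
  haveI hIf : Finite I := inferInstance
  haveI hfact : ∀ i : I, Fact i.1.Prime := fun i => ⟨Nat.prime_of_mem_primeFactors i.2⟩
  haveI hGsn : ∀ i : I, Group.IsNilpotent (commutator (G ⧸ pPrimeCore i.1 G)) := fun i =>
    (hquot i.1).isNilpotent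
  have hmapc : ∀ (p : ℕ) (g : G), g ∈ commutator G →
      (g : G ⧸ pPrimeCore p G) ∈ commutator (G ⧸ pPrimeCore p G) := by
    intro p g hg
    haveI hNn : (pPrimeCore p G).Normal := Cfsg.Agent.Lib.Basic.PCore.pPrimeCore_normal p G
    have h1 := Subgroup.mem_map_of_mem (QuotientGroup.mk' (pPrimeCore p G)) hg
    have h2 : (commutator G).map (QuotientGroup.mk' (pPrimeCore p G)) ≤
        commutator (G ⧸ pPrimeCore p G) := by
      rw [commutator_def, Subgroup.map_commutator]
      exact Subgroup.commutator_mono le_top le_top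
    exact h2 h1
  let F : commutator G →* ∀ i : I, commutator (G ⧸ pPrimeCore i.1 G) :=
    { toFun := fun g i => ⟨((g : G) : G ⧸ pPrimeCore i.1 G), hmapc i.1 g g.2⟩
      map_one' := by
        funext i
        rfl
      map_mul' := by
        intro a b
        funext i
        rfl }
  refine Subgroup.isNilpotent_of_ker_le_center F ?_
  intro g hg
  have hg1 : (g : G) = 1 := by
    have hall : ∀ i : I, (g : G) ∈ pPrimeCore i.1 G := by
      intro i
      haveI hNn : (pPrimeCore i.1 G).Normal :=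
        Cfsg.Agent.Lib.Basic.PCore.pPrimeCore_normal i.1 G
      have h1 := congrFun hg i
      have h2 : ((g : G) : G ⧸ pPrimeCore i.1 G) = 1 := congrArg Subtype.val h1
      exact (QuotientGroup.eq_one_iff _).mp h2
    by_contra hne
    have hord : orderOf (g : G) ≠ 1 := fun h => hne (orderOf_eq_one_iff.mp h)
    obtain ⟨q, hq, hqd⟩ := Nat.exists_prime_and_dvd hord
    have hqG : q ∣ Nat.card G := hqd.trans (orderOf_dvd_natCard _)
    have hqm : q ∈ (Nat.card G).primeFactors :=
      Nat.mem_primeFactors.mpr ⟨hq, hqG, Nat.card_pos.ne'⟩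
    have hin := hall ⟨q, hqm⟩
    have hc : (Nat.card (pPrimeCore q G)).Coprime q :=
      Cfsg.Agent.Lib.Solvable.PSeries.pPrimeCore_coprime q
    have h1 : orderOf (g : G) ∣ Nat.card (pPrimeCore q G) := by
      have := orderOf_dvd_natCard (⟨(g : G), hin⟩ : pPrimeCore q G)
      rwa [Subgroup.orderOf_mk] at this
    exact hq.one_lt.ne' (Nat.eq_one_of_dvd_coprimes hc (hqd.trans h1) (dvd_refl q))
  have : g = 1 := Subtype.ext hg1
  rw [this]
  exact one_mem _

end Main

end Cfsg.Agent.Lib.S3Fpf
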